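import Cfsg.Agent.Lib.CharInt.TI
import Cfsg.Agent.Lib.Char.Generalized
import Cfsg.Agent.Lib.Char.ClassSum
import Cfsg.Agent.Lib.Char.KernelSum

/-!
# Induced virtual characters on a TI support set and pairs of involutions

For a generalized character `α` of `H` vanishing outside the set of elements `h` with `h * h ≠ 1`, the
coordinates of its induced function, together with two linear identities coming from the
involutions of `G`.
-/

set_option autoImplicit false

namespace Cfsg.Agent.Exceptional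

open Cfsg
open scoped ComplexConjugate

universe u

variable {G : Type u} [Group G] [Fintype G]

/-- The involutions of `G`. -/
noncomputable def invols (G : Type u) [Group G] [Fintype G] : Finset G := by
  classical exact Finset.univ.filter fun g => g * g = 1 ∧ g ≠ 1

theorem mem_invols {g : G} : g ∈ invols G ↔ g * g = 1 ∧ g ≠ 1 := by
  classical simp [invols]

/-- The sum of a function over the involutions. -/
noncomputable def sumInv (f : G → ℂ) : ℂ := ∑ u ∈ invols G, f u

/-- The sum of a function over the products of two involutions. -/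
noncomputable def pairInv (f : G → ℂ) : ℂ := ∑ u ∈ invols G, ∑ v ∈ invols G, f (u * v)

theorem sum_invols_conj (x : G) (f : G → ℂ) :
    ∑ u ∈ invols G, f (x * u * x⁻¹) = ∑ u ∈ invols G, f u := by
  refine Finset.sum_equiv (MulAut.conj x).toEquiv (fun u => ?_) fun u _ => rfl
  simp [mem_invols, conj_eq_one_iff, show x * u * x⁻¹ * (x * u * x⁻¹) = x * (u * u) * x⁻¹ by group]

/-- An irreducible character turns the sum over pairs of involutions into a square. -/
theorem apply_one_mul_pairInv {χ : G → ℂ} (hχ : IsIrrCharacter G χ) :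
    χ 1 * pairInv χ = sumInv χ ^ 2 := by
  have hG : (Nat.card G : ℂ) ≠ 0 := Char.card_ne_zero
  apply mul_left_cancel₀ hG
  have h1 : (Nat.card G : ℂ) * pairInv χ =
      ∑ b : G, ∑ u ∈ invols G, ∑ v ∈ invols G, χ (b * u * b⁻¹ * v) := by
    rw [Finset.sum_congr rfl fun b _ =>
      sum_invols_conj b (fun w => ∑ v ∈ invols G, χ (w * v)), Finset.sum_const, Finset.card_univ,
      nsmul_eq_mul, ← Nat.card_eq_fintype_card, pairInv]
  calc (Nat.card G : ℂ) * (χ 1 * pairInv χ) = χ 1 * ((Nat.card G : ℂ) * pairInv χ) := by ring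
    _ = ∑ u ∈ invols G, ∑ v ∈ invols G, χ 1 * ∑ b : G, χ (b * u * b⁻¹ * v) := by
      rw [h1, Finset.sum_comm]
      simp only [Finset.mul_sum]
      exact Finset.sum_congr rfl fun u _ => Finset.sum_comm
    _ = ∑ u ∈ invols G, ∑ v ∈ invols G, (Nat.card G : ℂ) * χ u * χ v := by
      simp only [Char.sum_irr_conj_mul hχ]
    _ = (Nat.card G : ℂ) * sumInv χ ^ 2 := by
      simp only [sumInv, sq, Finset.mul_sum, Finset.sum_mul, mul_assoc]
      rw [Finset.sum_comm]

theorem sumInv_one : sumInv (fun _ : G => (1 : ℂ)) = (invols G).card := by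
  simp [sumInv]

variable {H : Subgroup G} [Fintype H]

theorem sumInv_indFun {α : H → ℂ} (hα : ∀ h : H, h * h = 1 → α h = 0) :
    sumInv (indFun H α) = 0 := by
  refine Finset.sum_eq_zero fun u hu => ?_
  refine CharInt.indFun_eq_zero_of_support (S := {g : G | g * g ≠ 1})
    (fun x hx => hα x (Subtype.ext (not_not.1 hx))) fun x => ?_
  simp [show x⁻¹ * u * x * (x⁻¹ * u * x) = x⁻¹ * (u * u) * x by group, (mem_invols.1 hu).1]

/-- Pairs of involutions with product in the support lie in `H`. -/
theorem pairInv_indFun {α : H → ℂ} (hα : ∀ h : H, h * h = 1 → α h = 0)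
    (hpair : ∀ u v : G, u * u = 1 → v * v = 1 → u * v ∈ H → u * v * (u * v) ≠ 1 → u ∈ H) :
    pairInv (indFun H α) = (Nat.card G : ℂ) / (Nat.card H : ℂ) * pairInv α := by
  classical
  have h1 : ∀ x : G, ∑ u ∈ invols G, ∑ v ∈ invols G, extendByZero H α (x⁻¹ * (u * v) * x) =
      ∑ u ∈ invols G, ∑ v ∈ invols G, extendByZero H α (u * v) := by
    intro x
    rw [← sum_invols_conj x⁻¹ fun u => ∑ v ∈ invols G, extendByZero H α (u * v)]
    refine Finset.sum_congr rfl fun u _ => ?_
    rw [← sum_invols_conj x⁻¹ fun v => extendByZero H α (x⁻¹ * u * x⁻¹⁻¹ * v)]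
    refine Finset.sum_congr rfl fun v _ => ?_
    congr 1
    group
  have h2 : ∑ u ∈ invols G, ∑ v ∈ invols G, extendByZero H α (u * v) = pairInv α := by
    have hmap : (invols G).filter (fun g => g ∈ H) = (invols H).map (Function.Embedding.subtype _) := by
      ext g
      simp only [Finset.mem_filter, mem_invols, Finset.mem_map, Function.Embedding.subtype_apply]
      constructor
      · rintro ⟨⟨h, h'⟩, hg⟩
        exact ⟨⟨g, hg⟩, ⟨Subtype.ext h, fun e => h' (congrArg Subtype.val e)⟩, rfl⟩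
      · rintro ⟨a, ⟨h, h'⟩, rfl⟩
        exact ⟨⟨congrArg Subtype.val h, fun e => h' (Subtype.ext e)⟩, a.2⟩
    have hz : ∀ u v : G, u * u = 1 → v * v = 1 → extendByZero H α (u * v) ≠ 0 → u ∈ H ∧ v ∈ H := by
      intro u v hu hv hne
      have hm : u * v ∈ H := by
        by_contra hm
        exact hne (Char.extendByZero_of_notMem _ _ hm)
      have hsq : u * v * (u * v) ≠ 1 := fun e => hne (by
        rw [Char.extendByZero_of_mem _ _ hm]
        exact hα _ (Subtype.ext e))
      have hu' := hpair u v hu hv hm hsq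
      exact ⟨hu', (H.mul_mem_cancel_left hu').1 hm⟩
    rw [pairInv, ← Finset.sum_filter_of_ne (p := fun g => g ∈ H) (fun u hu h => by
      obtain ⟨v, hv, hne⟩ := Finset.exists_ne_zero_of_sum_ne_zero h
      exact (hz u v (mem_invols.1 hu).1 (mem_invols.1 hv).1 hne).1), hmap, Finset.sum_map]
    refine Finset.sum_congr rfl fun a ha => ?_
    simp only [Function.Embedding.subtype_apply]
    rw [← Finset.sum_filter_of_ne (p := fun g => g ∈ H) (fun v hv hne =>
      (hz _ v (congrArg Subtype.val (mem_invols.1 ha).1) (mem_invols.1 hv).1 hne).2), hmap,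
      Finset.sum_map]
    exact Finset.sum_congr rfl fun b _ => Char.extendByZero_coe H α (a * b)
  calc pairInv (indFun H α)
      = (Nat.card H : ℂ)⁻¹ *
        ∑ x : G, ∑ u ∈ invols G, ∑ v ∈ invols G, extendByZero H α (x⁻¹ * (u * v) * x) := by
        simp only [pairInv, indFun, ← Finset.mul_sum]
        rw [Finset.sum_comm (s := (Finset.univ : Finset G))]
        exact congrArg _ (Finset.sum_congr rfl fun u _ => Finset.sum_comm)
    _ = _ := by
      rw [Finset.sum_congr rfl fun x _ => h1 x, Finset.sum_const, Finset.card_univ, nsmul_eq_mul,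
        ← Nat.card_eq_fintype_card, h2, div_eq_inv_mul, mul_assoc]

omit [Fintype H] in
theorem sumInv_sum_smul {ι : Type*} (t : Finset ι) (c : ι → ℂ) (f : ι → G → ℂ) :
    sumInv (∑ i ∈ t, c i • f i) = ∑ i ∈ t, c i * sumInv (f i) := by
  simp only [sumInv, Finset.sum_apply, Pi.smul_apply, smul_eq_mul, Finset.mul_sum]
  exact Finset.sum_comm

omit [Fintype H] in
theorem pairInv_sum_smul {ι : Type*} (t : Finset ι) (c : ι → ℂ) (f : ι → G → ℂ) :
    pairInv (∑ i ∈ t, c i • f i) = ∑ i ∈ t, c i * pairInv (f i) := by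
  simp only [pairInv, Finset.sum_apply, Pi.smul_apply, smul_eq_mul, Finset.mul_sum]
  rw [Finset.sum_comm (s := t)]
  exact Finset.sum_congr rfl fun u _ => Finset.sum_comm

/-- The coordinates of the induced functions and the identities they satisfy. -/
theorem exists_vec {κ : Type*} (α : κ → H → ℂ)
    (hgen : ∀ k, IsGeneralizedCharacter H (α k)) (hα : ∀ k, ∀ h : H, h * h = 1 → α k h = 0)
    (hTI : ∀ g s : G, s ∈ H → s * s ≠ 1 → g⁻¹ * s * g ∈ H → g ∈ H)
    (hpair : ∀ u v : G, u * u = 1 → v * v = 1 → u * v ∈ H → u * v * (u * v) ≠ 1 → u ∈ H) :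
    ∃ V : κ → IrrCharacter G → ℤ,
      (∀ k l, ((V k ⬝ᵥ V l : ℤ) : ℂ) = classInner (α k) (α l)) ∧
      (∀ k, (V k (Char.trivialChar G) : ℂ) = classInner (α k) (fun _ => 1)) ∧
      (∀ k, V k ⬝ᵥ (fun χ => (charDegree χ.1 : ℤ)) = 0) ∧
      (∀ k, ∑ χ, (V k χ : ℂ) * sumInv χ.1 = 0) ∧
      (∀ k, ∑ χ, (V k χ : ℂ) * pairInv χ.1 = (Nat.card G : ℂ) / (Nat.card H : ℂ) * pairInv (α k)) := by
  classical
  set S : Set G := {g : G | g ∈ H ∧ g * g ≠ 1}
  have hS : ∀ k, ∀ x : H, (x : G) ∉ S → α k x = 0 := fun k x hx => hα k x (Subtype.ext (by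
    by_contra h
    exact hx ⟨x.2, h⟩))
  have hTI' : ∀ g : G, ∀ s ∈ S, g⁻¹ * s * g ∈ S → g ∈ H := fun g s hs hs' => hTI g s hs.1 hs.2 hs'.1
  choose V hV hVi using fun k =>
    Char.IsGeneralizedCharacter.exists_decomp (Char.isGeneralizedCharacter_indFun H (hgen k))
  refine ⟨V, fun k l => ?_, fun k => ?_, fun k => ?_, fun k => ?_, fun k => ?_⟩
  · rw [← CharInt.classInner_indFun_ti hTI' (hS k)
      (Char.IsGeneralizedCharacter.isClassFunction (hgen l)) (hS l), hV l, Char.classInner_sum_right,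
      dotProduct, Int.cast_sum]
    refine Finset.sum_congr rfl fun χ _ => ?_
    rw [Char.classInner_smul_right, hVi, map_intCast, Int.cast_mul]
    ring
  · rw [← hVi, Char.classInner_indFun H _ (Char.IsCharacter.isClassFunction (Char.irr_isCharacter _))]
    rfl
  · have h := congrFun (hV k) 1
    rw [Char.indFun_apply_one, hα k 1 (one_mul 1), mul_zero, Finset.sum_apply] at h
    have h' : ((V k ⬝ᵥ (fun χ => (charDegree χ.1 : ℤ)) : ℤ) : ℂ) = 0 := by
      rw [h, dotProduct, Int.cast_sum]
      refine Finset.sum_congr rfl fun χ _ => ?_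
      simp [Char.charDegree_cast]
    exact_mod_cast h'
  · rw [← sumInv_indFun (hα k), hV k, sumInv_sum_smul]
  · rw [← pairInv_indFun (hα k) hpair, hV k, pairInv_sum_smul]

end Cfsg.Agent.Exceptional
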