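import Cfsg.Agent.Lib.CharInt.TI
import Cfsg.Agent.Lib.CharInt.Basic
import Cfsg.Agent.Lib.Char.Generalized
import Cfsg.Agent.Lib.Char.ClassSum
import Cfsg.Agent.Lib.Char.KernelSum

/-!
# Induced virtual characters and products from two sets of involutions

For a TI support set `S` of a subgroup `H` and conjugation invariant sets `A`, `B` of involutions,
the coordinates of induced functions satisfy linear and quadratic identities in the rational
numbers `(∑_{a ∈ A} χ a) / χ 1 - |A|`.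
-/

set_option autoImplicit false

namespace Cfsg.Agent.Exceptional

open Cfsg

universe u

variable {G : Type u} [Group G]

/-- A conjugation invariant finite set. -/
def IsConjInv (A : Finset G) : Prop := ∀ x : G, ∀ a ∈ A, x * a * x⁻¹ ∈ A

/-- The sum of `f` over `A`. -/
noncomputable def sumOn (A : Finset G) (f : G → ℂ) : ℂ := ∑ a ∈ A, f a

/-- The sum of `f` over products of an element of `A` and one of `B`. -/
noncomputable def pairOn (A B : Finset G) (f : G → ℂ) : ℂ := ∑ a ∈ A, ∑ b ∈ B, f (a * b)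

theorem sum_conjInv {A : Finset G} (hA : IsConjInv A) (x : G) {M : Type*} [AddCommMonoid M]
    (f : G → M) : ∑ a ∈ A, f (x * a * x⁻¹) = ∑ a ∈ A, f a := by
  refine Finset.sum_equiv (MulAut.conj x).toEquiv (fun a => ⟨hA x a, fun h => ?_⟩) fun a _ => rfl
  have := hA x⁻¹ _ h
  simpa [mul_assoc] using this

theorem sumOn_sum_smul {ι : Type*} (A : Finset G) (t : Finset ι) (c : ι → ℂ) (f : ι → G → ℂ) :
    sumOn A (∑ i ∈ t, c i • f i) = ∑ i ∈ t, c i * sumOn A (f i) := by
  simp only [sumOn, Finset.sum_apply, Pi.smul_apply, smul_eq_mul, Finset.mul_sum]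
  exact Finset.sum_comm

theorem pairOn_sum_smul {ι : Type*} (A B : Finset G) (t : Finset ι) (c : ι → ℂ) (f : ι → G → ℂ) :
    pairOn A B (∑ i ∈ t, c i • f i) = ∑ i ∈ t, c i * pairOn A B (f i) := by
  simp only [pairOn, Finset.sum_apply, Pi.smul_apply, smul_eq_mul, Finset.mul_sum]
  rw [Finset.sum_comm (s := t)]
  exact Finset.sum_congr rfl fun a _ => Finset.sum_comm

/-- A character takes rational integer values on involutions. -/
theorem exists_int_apply_invol [Finite G] {χ : G → ℂ} (hχ : IsCharacter G χ) {a : G}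
    (ha : a * a = 1) : ∃ z : ℤ, χ a = (z : ℂ) := by
  obtain ⟨n, μ, -, hμ, hval⟩ := CharInt.exists_roots hχ a
  have hint : ∀ i, ∃ z : ℤ, μ i = (z : ℂ) := by
    intro i
    obtain ⟨c, hc⟩ := (orderOf_dvd_of_pow_eq_one (show a ^ 2 = 1 by rw [sq, ha]) : orderOf a ∣ 2)
    have h2 : μ i ^ 2 = 1 := by rw [hc, pow_mul, hμ i, one_pow]
    rcases sq_eq_one_iff.1 h2 with h | h
    · exact ⟨1, by simp [h]⟩
    · exact ⟨-1, by simp [h]⟩
  choose z hz using hint
  refine ⟨∑ i, z i, ?_⟩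
  have := hval 1
  rw [pow_one] at this
  rw [this, Int.cast_sum]
  exact Finset.sum_congr rfl fun i _ => by rw [pow_one, hz]

variable [Fintype G]

/-- An irreducible character turns the sum over pairs into a product. -/
theorem apply_one_mul_pairOn {A B : Finset G} (hA : IsConjInv A) {χ : G → ℂ}
    (hχ : IsIrrCharacter G χ) : χ 1 * pairOn A B χ = sumOn A χ * sumOn B χ := by
  have hG : (Nat.card G : ℂ) ≠ 0 := Char.card_ne_zero
  apply mul_left_cancel₀ hG
  have h1 : (Nat.card G : ℂ) * pairOn A B χ =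
      ∑ x : G, ∑ a ∈ A, ∑ b ∈ B, χ (x * a * x⁻¹ * b) := by
    rw [Finset.sum_congr rfl fun x _ => sum_conjInv hA x (fun w => ∑ b ∈ B, χ (w * b)),
      Finset.sum_const, Finset.card_univ, nsmul_eq_mul, ← Nat.card_eq_fintype_card, pairOn]
  calc (Nat.card G : ℂ) * (χ 1 * pairOn A B χ) = χ 1 * ((Nat.card G : ℂ) * pairOn A B χ) := by ring
    _ = ∑ a ∈ A, ∑ b ∈ B, χ 1 * ∑ x : G, χ (x * a * x⁻¹ * b) := by
      rw [h1, Finset.sum_comm]
      simp only [Finset.mul_sum]
      exact Finset.sum_congr rfl fun u _ => Finset.sum_comm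
    _ = ∑ a ∈ A, ∑ b ∈ B, (Nat.card G : ℂ) * χ a * χ b := by
      simp only [Char.sum_irr_conj_mul hχ]
    _ = (Nat.card G : ℂ) * (sumOn A χ * sumOn B χ) := by
      simp only [sumOn, Finset.mul_sum, Finset.sum_mul, mul_assoc]
      rw [Finset.sum_comm]

variable {H : Subgroup G} [Fintype H]

/-- The part of `A` inside `H`. -/
noncomputable def inSub (H : Subgroup G) (A : Finset G) : Finset H := by
  classical exact A.subtype fun a => a ∈ H

omit [Fintype G] [Fintype H] in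
theorem mem_inSub {A : Finset G} {h : H} : h ∈ inSub H A ↔ (h : G) ∈ A := by
  classical simp [inSub]

theorem pairOn_indFun {A B : Finset G} (hA : IsConjInv A) (hB : IsConjInv B) {S : Set G} {α : H → ℂ}
    (hα : ∀ h : H, (h : G) ∉ S → α h = 0)
    (hpair : ∀ a ∈ A, ∀ b ∈ B, a * b ∈ H → a * b ∈ S → a ∈ H) :
    pairOn A B (indFun H α) =
      (Nat.card G : ℂ) / (Nat.card H : ℂ) * pairOn (inSub H A) (inSub H B) α := by
  classical
  have h1 : ∀ x : G, ∑ u ∈ A, ∑ v ∈ B, extendByZero H α (x⁻¹ * (u * v) * x) =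
      ∑ u ∈ A, ∑ v ∈ B, extendByZero H α (u * v) := by
    intro x
    rw [← sum_conjInv hA x⁻¹ fun u => ∑ v ∈ B, extendByZero H α (u * v)]
    refine Finset.sum_congr rfl fun u _ => ?_
    rw [← sum_conjInv hB x⁻¹ fun v => extendByZero H α (x⁻¹ * u * x⁻¹⁻¹ * v)]
    refine Finset.sum_congr rfl fun v _ => ?_
    congr 1
    group
  have h2 : ∑ u ∈ A, ∑ v ∈ B, extendByZero H α (u * v) = pairOn (inSub H A) (inSub H B) α := by
    have hz : ∀ u ∈ A, ∀ v ∈ B, extendByZero H α (u * v) ≠ 0 → u ∈ H ∧ v ∈ H := by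
      intro u hu v hv hne
      have hm : u * v ∈ H := by
        by_contra hm
        exact hne (Char.extendByZero_of_notMem _ _ hm)
      have hs : u * v ∈ S := by
        by_contra hs
        exact hne (by rw [Char.extendByZero_of_mem _ _ hm]; exact hα _ hs)
      have hu' := hpair u hu v hv hm hs
      exact ⟨hu', (H.mul_mem_cancel_left hu').1 hm⟩
    rw [pairOn, inSub, inSub, ← Finset.sum_filter_of_ne (p := fun g => g ∈ H) (fun u hu h => by
      obtain ⟨v, hv, hne⟩ := Finset.exists_ne_zero_of_sum_ne_zero h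
      exact (hz u hu v hv hne).1), ← Finset.subtype_map, Finset.sum_map]
    refine Finset.sum_congr rfl fun a ha => ?_
    simp only [Function.Embedding.subtype_apply]
    rw [← Finset.sum_filter_of_ne (p := fun g => g ∈ H) (fun v hv hne =>
      (hz _ (Finset.mem_subtype.1 ha) v hv hne).2), ← Finset.subtype_map, Finset.sum_map]
    exact Finset.sum_congr rfl fun b _ => Char.extendByZero_coe H α (a * b)
  calc pairOn A B (indFun H α)
      = (Nat.card H : ℂ)⁻¹ *
        ∑ x : G, ∑ u ∈ A, ∑ v ∈ B, extendByZero H α (x⁻¹ * (u * v) * x) := by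
        simp only [pairOn, indFun, ← Finset.mul_sum]
        rw [Finset.sum_comm (s := (Finset.univ : Finset G))]
        exact congrArg _ (Finset.sum_congr rfl fun u _ => Finset.sum_comm)
    _ = _ := by
      rw [Finset.sum_congr rfl fun x _ => h1 x, Finset.sum_const, Finset.card_univ, nsmul_eq_mul,
        ← Nat.card_eq_fintype_card, h2, div_eq_inv_mul, mul_assoc]

/-- The second-moment form of two rational functions weighted by `V χ · χ 1`. -/
noncomputable def form (V : IrrCharacter G → ℤ) (p q : IrrCharacter G → ℚ) : ℚ :=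
  ∑ χ, (V χ : ℚ) * (charDegree χ.1 : ℚ) * (p χ * q χ)

theorem exists_points (A B : Finset G) (hA : IsConjInv A) (hB : IsConjInv B)
    (hA2 : ∀ a ∈ A, a * a = 1) (hB2 : ∀ b ∈ B, b * b = 1)
    {S : Set G} (hS1 : (1 : G) ∉ S) (hS2 : ∀ s ∈ S, s * s ≠ 1)
    (hTI : ∀ g : G, ∀ s ∈ S, g⁻¹ * s * g ∈ S → g ∈ H)
    (hpair : ∀ a b : G, a * a = 1 → b * b = 1 → a * b ∈ H → a * b ∈ S → a ∈ H)
    {κ : Type*} (α : κ → H → ℂ) (hgen : ∀ k, IsGeneralizedCharacter H (α k))
    (hα : ∀ k, ∀ h : H, (h : G) ∉ S → α k h = 0) (m₁ m₂ m₃ : κ → ℤ)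
    (hm₁ : ∀ k, pairOn (inSub H A) (inSub H A) (α k) = (m₁ k : ℂ))
    (hm₂ : ∀ k, pairOn (inSub H A) (inSub H B) (α k) = (m₂ k : ℂ))
    (hm₃ : ∀ k, pairOn (inSub H B) (inSub H B) (α k) = (m₃ k : ℂ)) :
    ∃ (V : κ → IrrCharacter G → ℤ) (p q : IrrCharacter G → ℚ),
      p (Char.trivialChar G) = 0 ∧ q (Char.trivialChar G) = 0 ∧
      (∀ k, indFun H (α k) = ∑ χ, (V k χ : ℂ) • χ.1) ∧
      (∀ k l, ((V k ⬝ᵥ V l : ℤ) : ℂ) = classInner (α k) (α l)) ∧
      (∀ k, (V k (Char.trivialChar G) : ℂ) = classInner (α k) (fun _ => 1)) ∧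
      (∀ k, V k ⬝ᵥ (fun χ => (charDegree χ.1 : ℤ)) = 0) ∧
      (∀ k, form (V k) p 1 = 0 ∧ form (V k) q 1 = 0) ∧
      (∀ k, form (V k) p p = (Nat.card G : ℚ) / (Nat.card H : ℚ) * m₁ k ∧
        form (V k) p q = (Nat.card G : ℚ) / (Nat.card H : ℚ) * m₂ k ∧
        form (V k) q q = (Nat.card G : ℚ) / (Nat.card H : ℚ) * m₃ k) := by
  classical
  have hTI' := hTI
  choose V hV hVi using fun k =>
    Char.IsGeneralizedCharacter.exists_decomp (Char.isGeneralizedCharacter_indFun H (hgen k))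
  choose za hza using fun (χ : IrrCharacter G) (a : A) =>
    exists_int_apply_invol (Char.irr_isCharacter χ) (hA2 a a.2)
  choose zb hzb using fun (χ : IrrCharacter G) (b : B) =>
    exists_int_apply_invol (Char.irr_isCharacter χ) (hB2 b b.2)
  set sa : IrrCharacter G → ℤ := fun χ => ∑ a, za χ a with hsa
  set sb : IrrCharacter G → ℤ := fun χ => ∑ b, zb χ b with hsb
  have hSA : ∀ χ : IrrCharacter G, sumOn A χ.1 = ((sa χ : ℚ) : ℂ) := fun χ => by
    rw [hsa, sumOn, ← Finset.sum_coe_sort]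
    push_cast
    exact Finset.sum_congr rfl fun a _ => hza χ a
  have hSB : ∀ χ : IrrCharacter G, sumOn B χ.1 = ((sb χ : ℚ) : ℂ) := fun χ => by
    rw [hsb, sumOn, ← Finset.sum_coe_sort]
    push_cast
    exact Finset.sum_congr rfl fun b _ => hzb χ b
  have hd : ∀ χ : IrrCharacter G, (charDegree χ.1 : ℚ) ≠ 0 := fun χ =>
    Nat.cast_ne_zero.2 (Char.charDegree_pos χ).ne'
  have hdeg : ∀ k, V k ⬝ᵥ (fun χ => (charDegree χ.1 : ℤ)) = 0 := by
    intro k
    have h := congrFun (hV k) 1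
    rw [Char.indFun_apply_one, hα k 1 hS1, mul_zero, Finset.sum_apply] at h
    have h' : ((V k ⬝ᵥ (fun χ => (charDegree χ.1 : ℤ)) : ℤ) : ℂ) = 0 := by
      rw [h, dotProduct, Int.cast_sum]
      refine Finset.sum_congr rfl fun χ _ => ?_
      simp [Char.charDegree_cast]
    exact_mod_cast h'
  have hdegQ : ∀ k, ∑ χ, (V k χ : ℚ) * (charDegree χ.1 : ℚ) = 0 := by
    intro k
    have := hdeg k
    simp only [dotProduct] at this
    exact_mod_cast this
  have hvan : ∀ k (C : Finset G), (∀ c ∈ C, c * c = 1) → sumOn C (indFun H (α k)) = 0 := by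
    intro k C hC
    refine Finset.sum_eq_zero fun u hu => ?_
    refine CharInt.indFun_eq_zero_of_support (hα k) fun x hx => hS2 _ hx ?_
    rw [show x⁻¹ * u * x * (x⁻¹ * u * x) = x⁻¹ * (u * u) * x by group, hC u hu]
    group
  set Na : ℚ := (A.card : ℚ) with hNa
  set Nb : ℚ := (B.card : ℚ) with hNb
  refine ⟨V, fun χ => (sa χ : ℚ) / (charDegree χ.1 : ℚ) - Na,
    fun χ => (sb χ : ℚ) / (charDegree χ.1 : ℚ) - Nb, ?_, ?_, hV, fun k l => ?_, fun k => ?_, hdeg, ?_⟩
  · have h1 : (charDegree (Char.trivialChar G).1 : ℂ) = 1 := by simp [Char.charDegree_cast]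
    have h2 : ((sa (Char.trivialChar G) : ℚ) : ℂ) = A.card := by
      rw [← hSA]; simp [sumOn]
    have h1' : (charDegree (Char.trivialChar G).1 : ℚ) = 1 := by exact_mod_cast h1
    have h2' : (sa (Char.trivialChar G) : ℚ) = A.card := by exact_mod_cast h2
    simp only [h1', h2', hNa, div_one, sub_self]
  · have h1 : (charDegree (Char.trivialChar G).1 : ℂ) = 1 := by simp [Char.charDegree_cast]
    have h2 : ((sb (Char.trivialChar G) : ℚ) : ℂ) = B.card := by
      rw [← hSB]; simp [sumOn]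
    have h1' : (charDegree (Char.trivialChar G).1 : ℚ) = 1 := by exact_mod_cast h1
    have h2' : (sb (Char.trivialChar G) : ℚ) = B.card := by exact_mod_cast h2
    simp only [h1', h2', hNb, div_one, sub_self]
  · rw [← CharInt.classInner_indFun_ti hTI' (hα k)
      (Char.IsGeneralizedCharacter.isClassFunction (hgen l)) (hα l), hV l, Char.classInner_sum_right,
      dotProduct, Int.cast_sum]
    refine Finset.sum_congr rfl fun χ _ => ?_
    rw [Char.classInner_smul_right, hVi, map_intCast, Int.cast_mul]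
    ring
  · rw [← hVi, Char.classInner_indFun H _ (Char.IsCharacter.isClassFunction (Char.irr_isCharacter _))]
    rfl
  have hla : ∀ k, ∑ χ, (V k χ : ℚ) * (sa χ : ℚ) = 0 := by
    intro k
    have h := hvan k A hA2
    rw [hV k, sumOn_sum_smul] at h
    simp only [hSA] at h
    exact_mod_cast h
  have hlb : ∀ k, ∑ χ, (V k χ : ℚ) * (sb χ : ℚ) = 0 := by
    intro k
    have h := hvan k B hB2
    rw [hV k, sumOn_sum_smul] at h
    simp only [hSB] at h
    exact_mod_cast h
  have hquad : ∀ k (C D : Finset G) (s t : IrrCharacter G → ℤ) (m : ℤ), IsConjInv C → IsConjInv D →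
      (∀ c ∈ C, c * c = 1) → (∀ c ∈ D, c * c = 1) →
      (∀ χ, sumOn C χ.1 = ((s χ : ℚ) : ℂ)) → (∀ χ, sumOn D χ.1 = ((t χ : ℚ) : ℂ)) →
      pairOn (inSub H C) (inSub H D) (α k) = (m : ℂ) →
      ∑ χ, (V k χ : ℚ) * ((s χ : ℚ) * (t χ : ℚ) / (charDegree χ.1 : ℚ)) =
        (Nat.card G : ℚ) / (Nat.card H : ℚ) * m := by
    intro k C D s t m hC hD hC2 hD2 hs ht hm
    have h := pairOn_indFun (α := α k) hC hD (hα k) fun a ha b hb => hpair a b (hC2 a ha) (hD2 b hb)
    rw [hV k, pairOn_sum_smul, hm] at h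
    have h3 : ∀ χ : IrrCharacter G, pairOn C D χ.1 =
        (((s χ : ℚ) * (t χ : ℚ) / (charDegree χ.1 : ℚ) : ℚ) : ℂ) := fun χ => by
      have := apply_one_mul_pairOn (B := D) hC χ.2
      rw [← Char.charDegree_cast, hs, ht] at this
      rw [Rat.cast_div, Rat.cast_mul, eq_div_iff (by simpa using hd χ)]
      rw [mul_comm, ← this]
      norm_num
    simp only [h3] at h
    have h4 : ((∑ χ, (V k χ : ℚ) * ((s χ : ℚ) * (t χ : ℚ) / (charDegree χ.1 : ℚ)) : ℚ) : ℂ) =
        (((Nat.card G : ℚ) / (Nat.card H : ℚ) * m : ℚ) : ℂ) := by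
      push_cast at h ⊢
      exact h
    exact_mod_cast h4
  refine ⟨fun k => ⟨?_, ?_⟩, fun k => ⟨?_, ?_, ?_⟩⟩
  · calc _ = ∑ χ, (V k χ : ℚ) * (sa χ : ℚ) - Na * ∑ χ, (V k χ : ℚ) * (charDegree χ.1 : ℚ) := by
          rw [form, Finset.mul_sum, ← Finset.sum_sub_distrib]
          refine Finset.sum_congr rfl fun χ _ => ?_
          rw [Pi.one_apply]
          field_simp [hd χ]
      _ = 0 := by rw [hla, hdegQ, mul_zero, sub_zero]
  · calc _ = ∑ χ, (V k χ : ℚ) * (sb χ : ℚ) - Nb * ∑ χ, (V k χ : ℚ) * (charDegree χ.1 : ℚ) := by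
          rw [form, Finset.mul_sum, ← Finset.sum_sub_distrib]
          refine Finset.sum_congr rfl fun χ _ => ?_
          rw [Pi.one_apply]
          field_simp [hd χ]
      _ = 0 := by rw [hlb, hdegQ, mul_zero, sub_zero]
  · rw [← hquad k A A sa sa (m₁ k) hA hA hA2 hA2 hSA hSA (hm₁ k), form]
    have : ∑ χ, ((V k χ : ℚ) * ((sa χ : ℚ) * (sa χ : ℚ) / (charDegree χ.1 : ℚ)) -
        (Na * ((V k χ : ℚ) * (sa χ : ℚ)) + Na * ((V k χ : ℚ) * (sa χ : ℚ)) -
          Na * Na * ((V k χ : ℚ) * (charDegree χ.1 : ℚ)))) =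
        ∑ χ, (V k χ : ℚ) * ((sa χ : ℚ) * (sa χ : ℚ) / (charDegree χ.1 : ℚ)) := by
      simp [Finset.sum_sub_distrib, Finset.sum_add_distrib, ← Finset.mul_sum, hla, hdegQ]
    rw [← this]
    refine Finset.sum_congr rfl fun χ _ => ?_
    field_simp [hd χ]
    ring
  · rw [← hquad k A B sa sb (m₂ k) hA hB hA2 hB2 hSA hSB (hm₂ k), form]
    have : ∑ χ, ((V k χ : ℚ) * ((sa χ : ℚ) * (sb χ : ℚ) / (charDegree χ.1 : ℚ)) -
        (Nb * ((V k χ : ℚ) * (sa χ : ℚ)) + Na * ((V k χ : ℚ) * (sb χ : ℚ)) -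
          Na * Nb * ((V k χ : ℚ) * (charDegree χ.1 : ℚ)))) =
        ∑ χ, (V k χ : ℚ) * ((sa χ : ℚ) * (sb χ : ℚ) / (charDegree χ.1 : ℚ)) := by
      simp [Finset.sum_sub_distrib, Finset.sum_add_distrib, ← Finset.mul_sum, hla, hlb, hdegQ]
    rw [← this]
    refine Finset.sum_congr rfl fun χ _ => ?_
    field_simp [hd χ]
    ring
  · rw [← hquad k B B sb sb (m₃ k) hB hB hB2 hB2 hSB hSB (hm₃ k), form]
    have : ∑ χ, ((V k χ : ℚ) * ((sb χ : ℚ) * (sb χ : ℚ) / (charDegree χ.1 : ℚ)) -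
        (Nb * ((V k χ : ℚ) * (sb χ : ℚ)) + Nb * ((V k χ : ℚ) * (sb χ : ℚ)) -
          Nb * Nb * ((V k χ : ℚ) * (charDegree χ.1 : ℚ)))) =
        ∑ χ, (V k χ : ℚ) * ((sb χ : ℚ) * (sb χ : ℚ) / (charDegree χ.1 : ℚ)) := by
      simp [Finset.sum_sub_distrib, Finset.sum_add_distrib, ← Finset.mul_sum, hlb, hdegQ]
    rw [← this]
    refine Finset.sum_congr rfl fun χ _ => ?_
    field_simp [hd χ]
    ring

/-- The class of `a` as a finite set. -/
noncomputable def classFinset (a : G) : Finset G := by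
  classical exact Finset.univ.filter fun g => IsConj a g

omit [Fintype H] in
theorem mem_classFinset {a g : G} : g ∈ classFinset a ↔ IsConj a g := by
  classical simp [classFinset]

omit [Fintype H] in
theorem isConjInv_classFinset (a : G) : IsConjInv (classFinset a) := fun x g hg => by
  rw [mem_classFinset] at hg ⊢
  exact hg.trans (isConj_iff.2 ⟨x, rfl⟩)

omit [Fintype H] in
theorem classFinset_sq {a : G} (ha : a * a = 1) : ∀ g ∈ classFinset a, g * g = 1 := fun g hg => by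
  obtain ⟨x, rfl⟩ := isConj_iff.1 (mem_classFinset.1 hg)
  rw [show x * a * x⁻¹ * (x * a * x⁻¹) = x * (a * a) * x⁻¹ by group, ha]
  group

end Cfsg.Agent.Exceptional
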