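import Cfsg.Agent.Lib.Perm.PrimeDegree
import Cfsg.Agent.Lib.Char.Induction
import Cfsg.Agent.Lib.Char.PermChar
import Cfsg.Agent.Lib.BlockCount.Involve
import Mathlib.Analysis.SpecialFunctions.Complex.CircleAddChar
import Mathlib.NumberTheory.LegendreSymbol.AddCharacter

/-!
# Groups of prime degree with a dihedral Sylow normaliser: the exceptional characters

For a triply transitive group on `p` letters whose Sylow `p`-normaliser has order `2p` the
functions `θ + π - 1` (`θ` induced from `1 - λ`) are irreducible of degree `p - 2`; with the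
class multiplication identity every involution fixes exactly one letter.
-/

set_option autoImplicit false
set_option linter.style.haveILetI false
set_option linter.unusedSectionVars false

open scoped Classical ComplexConjugate

namespace Cfsg.Agent.Exceptional

open MulAction

universe u

variable {α : Type u} [Fintype α] [DecidableEq α] {p : ℕ} [hp : Fact p.Prime]
  {G : Subgroup (Equiv.Perm α)}

/-- The permutation character minus one. -/
noncomputable def permPi (G : Subgroup (Equiv.Perm α)) (g : G) : ℂ :=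
  (Nat.card (fixedBy α g) : ℂ) - 1

theorem card_fixedBy_one (hα : Fintype.card α = p) : Nat.card (fixedBy α (1 : G)) = p := by
  rw [fixedBy_one_eq_univ, Nat.card_congr (Equiv.Set.univ α), Nat.card_eq_fintype_card, hα]

theorem card_fixedBy_lt (hα : Fintype.card α = p) {g : G} (hg : g ≠ 1) :
    Nat.card (fixedBy α g) < p := by
  refine lt_of_le_of_ne ?_ fun h => hg (Subtype.ext (Equiv.ext fun x => ?_))
  · rw [← hα, ← Nat.card_eq_fintype_card]; exact Finite.card_subtype_le _
  · rw [Nat.card_eq_fintype_card] at h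
    have hx : x ∈ fixedBy α g := by
      by_contra hx
      have := Fintype.card_lt_of_injective_of_notMem (fun y : fixedBy α g => (y : α))
        Subtype.val_injective (b := x) (by rintro ⟨y, rfl⟩; exact hx y.2)
      omega
    exact hx

/-- The number of fixed points is a class function. -/
theorem card_fixedBy_conj (g h : G) :
    Nat.card (fixedBy α (h * g * h⁻¹)) = Nat.card (fixedBy α g) := by
  refine (Nat.card_congr (Equiv.subtypeEquiv (MulAction.toPerm h) fun x => ?_)).symm
  simp only [mem_fixedBy, MulAction.toPerm_apply]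
  rw [mul_smul, mul_smul, inv_smul_smul, smul_left_cancel_iff]

/-- Coordinates for an element of order `p`. -/
theorem exists_coords_pow (hα : Fintype.card α = p) {c : G} (hc : orderOf c = p) :
    ∃ e : ZMod p ≃ α, ∀ (n : ℕ) (i : ZMod p), c ^ n • e i = e (i + n) := by
  haveI : Nonempty α := Fintype.card_pos_iff.1 (hα ▸ hp.out.pos)
  obtain ⟨e, -, he⟩ := Perm.PrimeDegree.exists_coords hα (c := (c : Equiv.Perm α))
    (by rw [Subgroup.orderOf_coe, hc]) (Classical.arbitrary α)
  refine ⟨e, fun n => ?_⟩
  induction n with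
  | zero => intro i; simp
  | succ n ih =>
    intro i
    rw [pow_succ, mul_smul, show c • e i = e (i + 1) from he i, ih]
    congr 1
    push_cast
    ring

/-- A non-identity power of an element of order `p` fixes nothing. -/
theorem card_fixedBy_eq_zero (hα : Fintype.card α = p) {c g : G} (hc : orderOf c = p)
    (hg : g ∈ Subgroup.zpowers c) (hg1 : g ≠ 1) : Nat.card (fixedBy α g) = 0 := by
  obtain ⟨e, he⟩ := exists_coords_pow hα hc
  obtain ⟨n, rfl⟩ : ∃ n : ℕ, c ^ n = g := mem_powers_iff_mem_zpowers.2 hg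
  haveI : IsEmpty (fixedBy α (c ^ n)) := ⟨fun ⟨x, hx⟩ => by
    obtain ⟨i, rfl⟩ := e.surjective x
    rw [mem_fixedBy, he, e.injective.eq_iff, add_eq_left, ZMod.natCast_eq_zero_iff] at hx
    exact hg1 (orderOf_dvd_iff_pow_eq_one.1 (hc ▸ hx))⟩
  exact Nat.card_of_isEmpty

/-- An element commuting with an element of order `p` is a power of it. -/
theorem mem_zpowers_of_commute (hα : Fintype.card α = p) {c g : G} (hc : orderOf c = p)
    (h : Commute c g) : g ∈ Subgroup.zpowers c := by
  obtain ⟨e, he⟩ := exists_coords_pow hα hc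
  obtain ⟨s, hs⟩ : ∃ s, g • e 0 = e s := ⟨e.symm (g • e 0), (e.apply_symm_apply _).symm⟩
  suffices g = c ^ s.val from this ▸ Subgroup.npow_mem_zpowers c _
  refine Subtype.ext (Equiv.ext fun x => ?_)
  obtain ⟨i, rfl⟩ := e.surjective x
  show g • e i = c ^ s.val • e i
  rw [he, ZMod.natCast_zmod_val]
  calc g • e i = g • c ^ i.val • e 0 := by rw [he, ZMod.natCast_zmod_val, zero_add]
    _ = c ^ i.val • g • e 0 := by rw [← mul_smul, ← mul_smul, (h.pow_left i.val).eq]
    _ = e (i + s) := by rw [hs, he, ZMod.natCast_zmod_val, add_comm]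

/-- An involution inverting an element of order `p` fixes exactly one letter. -/
theorem card_fixedBy_of_inverts (hα : Fintype.card α = p) (hp2 : p ≠ 2) {c w : G}
    (hc : orderOf c = p) (hinv : w * c * w⁻¹ = c⁻¹) : Nat.card (fixedBy α w) = 1 := by
  obtain ⟨e, he⟩ := exists_coords_pow hα hc
  obtain ⟨s, hs⟩ : ∃ s, w • e 0 = e s := ⟨e.symm (w • e 0), (e.apply_symm_apply _).symm⟩
  have hneg : ∀ i, w • e i = e (s - i) := by
    intro i
    have h1 : (w * c * w⁻¹) ^ i.val = w * c ^ i.val * w⁻¹ := conj_pow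
    rw [hinv, inv_pow] at h1
    have h2 : w * c ^ i.val = (c ^ i.val)⁻¹ * w := by rw [h1, inv_mul_cancel_right]
    calc w • e i = w • c ^ i.val • e 0 := by rw [he, ZMod.natCast_zmod_val, zero_add]
      _ = (c ^ i.val)⁻¹ • e s := by rw [← mul_smul, h2, mul_smul, hs]
      _ = e (s - i) := by rw [inv_smul_eq_iff, he, ZMod.natCast_zmod_val, sub_add_cancel]
  have h2 : (2 : ZMod p) ≠ 0 := by
    intro h
    exact hp2 ((Nat.prime_dvd_prime_iff_eq hp.out Nat.prime_two).1
      ((ZMod.natCast_eq_zero_iff 2 p).1 (by exact_mod_cast h)))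
  rw [Nat.card_eq_one_iff_unique]
  refine ⟨⟨fun ⟨x, hx⟩ ⟨y, hy⟩ => Subtype.ext ?_⟩, ⟨⟨e (s / 2), ?_⟩⟩⟩
  · obtain ⟨i, rfl⟩ := e.surjective x
    obtain ⟨j, rfl⟩ := e.surjective y
    rw [mem_fixedBy, hneg, e.injective.eq_iff] at hx hy
    show e i = e j
    congr 1
    exact mul_left_cancel₀ h2 (by linear_combination hy - hx)
  · rw [mem_fixedBy, hneg, e.injective.eq_iff]
    field_simp
    ring

/-- A generalized character of norm one and positive degree is irreducible. -/
theorem isIrr_of_norm_one {H : Type u} [Group H] [Fintype H] {X : H → ℂ}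
    (hgen : Cfsg.IsGeneralizedCharacter H X) (hnorm : Cfsg.classInner X X = 1) (d : ℕ) (hd : 0 < d)
    (hX : X 1 = (d : ℂ)) : Cfsg.IsIrrCharacter H X := by
  obtain ⟨a, b, ha, hb, rfl⟩ := hgen
  obtain ⟨m, hm, hm'⟩ := Char.IsCharacter.exists_decomp ha
  obtain ⟨n, hn, hn'⟩ := Char.IsCharacter.exists_decomp hb
  have hcl : Cfsg.IsClassFunction H (a - b) := fun g h => by
    simp only [Pi.sub_apply, Char.IsCharacter.isClassFunction ha g h,
      Char.IsCharacter.isClassFunction hb g h]
  set z : Cfsg.IrrCharacter H → ℤ := fun ψ => (m ψ : ℤ) - n ψ with hz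
  have hco : ∀ ψ : Cfsg.IrrCharacter H, Cfsg.classInner (a - b) ψ.1 = (z ψ : ℂ) := fun ψ => by
    rw [Char.classInner_sub_left, hm', hn', hz]; push_cast; rfl
  have hco' : ∀ ψ : Cfsg.IrrCharacter H, Cfsg.classInner ψ.1 (a - b) = (z ψ : ℂ) := fun ψ => by
    rw [← Char.conj_classInner, hco, map_intCast]
  have hsq : ∑ ψ, z ψ * z ψ = 1 := by
    rw [Char.classInner_eq_sum hcl] at hnorm
    simp only [hco, hco'] at hnorm
    exact_mod_cast hnorm
  obtain ⟨ψ, hψ⟩ : ∃ ψ, z ψ ≠ 0 := by
    by_contra! hcon
    simp [hcon] at hsq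
  rw [← Finset.add_sum_erase _ _ (Finset.mem_univ ψ)] at hsq
  have hpos : 1 ≤ z ψ * z ψ := by nlinarith [mul_self_pos.2 hψ]
  have hrest : ∑ x ∈ Finset.univ.erase ψ, z x * z x = 0 :=
    le_antisymm (by linarith) (Finset.sum_nonneg fun x _ => mul_self_nonneg _)
  have hz0 : ∀ x, x ≠ ψ → z x = 0 := fun x hx => mul_self_eq_zero.1
    ((Finset.sum_eq_zero_iff_of_nonneg fun x _ => mul_self_nonneg _).1 hrest x
      (Finset.mem_erase.2 ⟨hx, Finset.mem_univ x⟩))
  have hexp : a - b = (z ψ : ℂ) • ψ.1 := by
    conv_lhs => rw [Char.eq_sum_classInner_smul hcl]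
    rw [Finset.sum_eq_single ψ (fun x _ hx => by rw [hco, hz0 x hx, Int.cast_zero, zero_smul])
      (fun h => absurd (Finset.mem_univ _) h), hco]
  rw [hrest, add_zero] at hsq
  have h1 : z ψ = 1 := by
    rcases Int.eq_one_or_neg_one_of_mul_eq_one hsq with h | h
    · exact h
    · exfalso
      rw [hexp, Pi.smul_apply, smul_eq_mul, h, Char.apply_one_eq_degree] at hX
      have : -(Char.degree ψ : ℤ) = (d : ℤ) := by
        push_cast at hX; exact_mod_cast (by linear_combination hX : -(Char.degree ψ : ℂ) = (d : ℂ))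
      omega
  rw [hexp, h1, Int.cast_one, one_smul]
  exact ψ.2

section Data

variable (hα : Fintype.card α = p) (hp5 : 5 ≤ p) {c : G} (hc : orderOf c = p)
  (hN : Nat.card (Subgroup.normalizer ((Subgroup.zpowers c : Subgroup G) : Set G)) = 2 * p)

include hc in
theorem mem_normalizer_of_conj {y x : G} (hy : y ∈ Subgroup.zpowers c) (hy1 : y ≠ 1)
    (h : x⁻¹ * y * x ∈ Subgroup.zpowers c) :
    x ∈ Subgroup.normalizer ((Subgroup.zpowers c : Subgroup G) : Set G) := by
  haveI : Fintype G := Fintype.ofFinite G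
  have hcard : ∀ z : G, z ∈ Subgroup.zpowers c → z ≠ 1 → Subgroup.zpowers z = Subgroup.zpowers c := by
    intro z hz hz1
    refine Subgroup.eq_of_le_of_card_ge (Subgroup.zpowers_le.2 hz) (le_of_eq ?_)
    rw [Nat.card_zpowers, Nat.card_zpowers, hc]
    have hd : orderOf z ∣ p := hc ▸ orderOf_dvd_of_mem_zpowers hz
    exact (((Nat.dvd_prime hp.out).1 hd).resolve_left fun h => hz1 (orderOf_eq_one_iff.1 h)).symm
  have hy' : x⁻¹ * y * x ≠ 1 := fun h' => hy1 (by
    calc y = x * (x⁻¹ * y * x) * x⁻¹ := by group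
      _ = 1 := by rw [h', mul_one, mul_inv_cancel])
  rw [← inv_inv x]
  refine inv_mem ?_
  rw [Subgroup.mem_normalizer_iff]
  intro z
  simp only [inv_inv]
  have hkey : (Subgroup.zpowers c).map (MulAut.conj x⁻¹).toMonoidHom = Subgroup.zpowers c := by
    conv_lhs => rw [← hcard y hy hy1]
    rw [MonoidHom.map_zpowers]
    exact hcard _ (by simpa using h) (by simpa using hy')
  constructor
  · intro hz
    rw [← hkey]
    exact ⟨z, hz, by simp⟩
  · intro hz
    rw [← hkey] at hz
    obtain ⟨w, hw, hwz⟩ := hz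
    simp at hwz
    exact hwz ▸ hw

include hα hc hN hp5 in
/-- The dihedral normaliser. -/
theorem exists_inverter : ∃ u : G, u * u = 1 ∧ u * c * u⁻¹ = c⁻¹ ∧ u ∉ Subgroup.zpowers c ∧
    ∀ x ∈ Subgroup.normalizer ((Subgroup.zpowers c : Subgroup G) : Set G),
      ∃ h ∈ Subgroup.zpowers c, x = h ∨ x = u * h := by
  haveI : Fintype G := Fintype.ofFinite G
  haveI := Fact.mk Nat.prime_two
  set N := Subgroup.normalizer ((Subgroup.zpowers c : Subgroup G) : Set G) with hNdef
  obtain ⟨⟨u, huN⟩, hu2⟩ := exists_prime_orderOf_dvd_card' (G := N) 2 (hN ▸ dvd_mul_right 2 p)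
  rw [Subgroup.orderOf_mk] at hu2
  have huu : u * u = 1 := by rw [← pow_two, ← hu2, pow_orderOf_eq_one]
  have huP : u ∉ Subgroup.zpowers c := fun h => by
    have := hc ▸ orderOf_dvd_of_mem_zpowers h
    rw [hu2, Nat.prime_dvd_prime_iff_eq Nat.prime_two hp.out] at this
    omega
  obtain ⟨m, hm⟩ : ∃ m : ℕ, c ^ m = u * c * u⁻¹ :=
    mem_powers_iff_mem_zpowers.2 ((Subgroup.mem_normalizer_iff.1 huN c).1 (Subgroup.mem_zpowers c))
  have hm2 : c ^ (m * m) = c ^ 1 := by
    rw [pow_mul, hm, conj_pow, hm]
    calc u * (u * c * u⁻¹) * u⁻¹ = (u * u) * c * (u * u)⁻¹ := by group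
      _ = c ^ 1 := by rw [huu]; group
  rw [pow_eq_pow_iff_modEq, hc, ← ZMod.natCast_eq_natCast_iff, Nat.cast_mul, Nat.cast_one,
    mul_self_eq_one_iff] at hm2
  refine ⟨u, huu, ?_, huP, fun x hx => ?_⟩
  · rcases hm2 with h | h
    · exfalso
      refine huP (mem_zpowers_of_commute hα hc ?_)
      have : c ^ m = c := by
        conv_rhs => rw [← pow_one c]
        rw [pow_eq_pow_iff_modEq, hc, ← ZMod.natCast_eq_natCast_iff, Nat.cast_one]
        exact h
      rw [this] at hm
      exact mul_inv_eq_iff_eq_mul.1 hm.symm |>.symm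
    · rw [← hm, eq_inv_iff_mul_eq_one, ← pow_succ, ← orderOf_dvd_iff_pow_eq_one, hc,
        ← ZMod.natCast_eq_zero_iff]
      push_cast
      rw [h, neg_add_cancel]
  · by_contra! hne
    let S : Finset G := (Subgroup.zpowers c : Set G).toFinset
    have hdisj : Disjoint S (S.image (u * ·)) := by
      rw [Finset.disjoint_left]
      intro y hy hy'
      obtain ⟨z, hz, rfl⟩ := Finset.mem_image.1 hy'
      simp only [S, Set.mem_toFinset, SetLike.mem_coe] at hy hz
      exact huP (by simpa using mul_mem hy (inv_mem hz))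
    have hsub : insert x (S ∪ S.image (u * ·)) ⊆ (N : Set G).toFinset := by
      intro y hy
      rw [Set.mem_toFinset]
      rcases Finset.mem_insert.1 hy with rfl | hy
      · exact hx
      rcases Finset.mem_union.1 hy with hy | hy
      · exact Subgroup.le_normalizer (by simpa [S] using hy)
      · obtain ⟨z, hz, rfl⟩ := Finset.mem_image.1 hy
        exact mul_mem huN (Subgroup.le_normalizer (by simpa [S] using hz))
    have hnot : x ∉ S ∪ S.image (u * ·) := by
      rw [Finset.mem_union, Finset.mem_image]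
      rintro (h | ⟨z, hz, rfl⟩)
      · exact (hne x (by simpa [S] using h)).1 rfl
      · exact (hne z (by simpa [S] using hz)).2 rfl
    have hcardle := Finset.card_le_card hsub
    rw [Finset.card_insert_of_notMem hnot, Finset.card_union_of_disjoint hdisj,
      Finset.card_image_of_injective _ (mul_right_injective u)] at hcardle
    have hS : S.card = p := by
      simp only [S, Set.toFinset_card, ← Nat.card_eq_fintype_card]
      exact (Nat.card_zpowers c).trans hc
    have hN' : ((N : Set G).toFinset).card = 2 * p := by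
      simp only [Set.toFinset_card, ← Nat.card_eq_fintype_card]
      exact hN
    omega

include hα hc hN hp5 in
/-- Functions induced from the Sylow subgroup take symmetrised values on it. -/
theorem indFun_apply_mem [Fintype G] {φ : Subgroup.zpowers c → ℂ} (h1 : φ 1 = 0)
    (h : Subgroup.zpowers c) : Cfsg.indFun (Subgroup.zpowers c) φ h = φ h + φ h⁻¹ := by
  by_cases hh : h = 1
  · subst hh
    rw [Subgroup.coe_one, Char.indFun_apply_one, inv_one, h1]
    ring
  haveI : Fintype (Subgroup.zpowers c) := Fintype.ofFinite (Subgroup.zpowers c)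
  obtain ⟨u, huu, huc, huP, hdec⟩ := exists_inverter hα hp5 hc hN
  have hcom : ∀ y z : (Subgroup.zpowers c), y * z = z * y := fun y z => by
    obtain ⟨i, hi⟩ := Subgroup.mem_zpowers_iff.1 y.2
    obtain ⟨j, hj⟩ := Subgroup.mem_zpowers_iff.1 z.2
    apply Subtype.ext
    rw [Subgroup.coe_mul, Subgroup.coe_mul, ← hi, ← hj]
    exact zpow_mul_comm c i j
  have hinv : ∀ y : (Subgroup.zpowers c), u⁻¹ * (y : G) * u = (y : G)⁻¹ := by
    intro y
    obtain ⟨i, hi⟩ := Subgroup.mem_zpowers_iff.1 y.2
    rw [show u⁻¹ = u from inv_eq_of_mul_eq_one_right huu, ← hi]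
    have : u * c ^ i * u = (u * c * u⁻¹) ^ i := by
      rw [conj_zpow, show u⁻¹ = u from inv_eq_of_mul_eq_one_right huu]
    rw [this, huc, inv_zpow]
  have key : ∑ x : G, Cfsg.extendByZero (Subgroup.zpowers c) φ (x⁻¹ * (h : G) * x) =
      ∑ x ∈ ((Subgroup.zpowers c) : Set G).toFinset ∪ ((Subgroup.zpowers c) : Set G).toFinset.image (u * ·),
        Cfsg.extendByZero (Subgroup.zpowers c) φ (x⁻¹ * (h : G) * x) := by
    refine (Finset.sum_subset (Finset.subset_univ _) fun x _ hx => ?_).symm
    refine Char.extendByZero_of_notMem (Subgroup.zpowers c) φ fun hmem => hx ?_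
    obtain ⟨z, hz, rfl | rfl⟩ :=
      hdec x (mem_normalizer_of_conj hc h.2 (fun e => hh (Subtype.ext e)) hmem)
    · exact Finset.mem_union_left _ (Set.mem_toFinset.2 hz)
    · exact Finset.mem_union_right _ (Finset.mem_image_of_mem _ (Set.mem_toFinset.2 hz))
  have hdisj : Disjoint ((Subgroup.zpowers c) : Set G).toFinset (((Subgroup.zpowers c) : Set G).toFinset.image (u * ·)) := by
    rw [Finset.disjoint_left]
    intro y hy hy'
    obtain ⟨z, hz, rfl⟩ := Finset.mem_image.1 hy'
    simp only [Set.mem_toFinset, SetLike.mem_coe] at hy hz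
    exact huP (by simpa using mul_mem hy (inv_mem hz))
  have hx1 : ∀ z : (Subgroup.zpowers c), Cfsg.extendByZero (Subgroup.zpowers c) φ ((z : G)⁻¹ * (h : G) * z) = φ h := by
    intro z
    have : (z : G)⁻¹ * (h : G) * z = ((z⁻¹ * h * z : (Subgroup.zpowers c)) : G) := by simp
    rw [this, Char.extendByZero_coe, mul_assoc, hcom h z, inv_mul_cancel_left]
  have hx2 : ∀ z : (Subgroup.zpowers c), Cfsg.extendByZero (Subgroup.zpowers c) φ ((u * (z : G))⁻¹ * (h : G) * (u * z)) = φ h⁻¹ := by
    intro z
    have : (u * (z : G))⁻¹ * (h : G) * (u * z) = ((z⁻¹ * h⁻¹ * z : (Subgroup.zpowers c)) : G) := by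
      simp only [Subgroup.coe_mul, Subgroup.coe_inv, ← hinv h]
      group
    rw [this, Char.extendByZero_coe, mul_assoc, hcom h⁻¹ z, inv_mul_cancel_left]
  have hp0 : (p : ℂ) ≠ 0 := Nat.cast_ne_zero.2 hp.out.ne_zero
  simp only [Cfsg.indFun]
  rw [key, Finset.sum_union hdisj, Finset.sum_image (mul_right_injective u).injOn]
  have e1 : ∀ F : G → ℂ, ∑ x ∈ ((Subgroup.zpowers c) : Set G).toFinset, F x =
      ∑ z : (Subgroup.zpowers c), F z := fun F => Finset.sum_subtype _ (fun x => Set.mem_toFinset) F
  rw [e1, e1, Finset.sum_congr rfl (fun z _ => hx1 z), Finset.sum_congr rfl (fun z _ => hx2 z)]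
  simp only [Finset.sum_const, Finset.card_univ, nsmul_eq_mul, ← Nat.card_eq_fintype_card,
    Nat.card_zpowers, hc]
  field_simp

end Data

section Chars

variable [Fintype G] (hα : Fintype.card α = p) (hp5 : 5 ≤ p)

/-- Burnside's formula for the fixed tuples of a multiply transitive group. -/
theorem sum_descFactorial (k : ℕ) :
    ∑ g : G, ((Nat.card (fixedBy α g)).descFactorial k) =
      Nat.card (Quotient (orbitRel G (Fin k ↪ α))) * Nat.card G := by
  have h := MulAction.sum_card_fixedBy_eq_card_orbits_mul_card_group G (Fin k ↪ α)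
  simp only [← Nat.card_eq_fintype_card] at h
  rw [← h]
  refine Finset.sum_congr rfl fun g _ => ?_
  have hke := Fintype.card_embedding_eq (α := Fin k) (β := fixedBy α g)
  rw [Fintype.card_fin, ← Nat.card_eq_fintype_card, ← Nat.card_eq_fintype_card] at hke
  rw [← hke]
  exact Nat.card_congr
    { toFun := fun f => ⟨⟨fun i => (f i).1, fun i j hij => f.injective (Subtype.ext hij)⟩,
        Function.Embedding.ext fun i => (f i).2⟩
      invFun := fun f => ⟨fun i => ⟨f.1 i, congrArg (fun e : Fin k ↪ α => e i) f.2⟩,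
        fun i j hij => f.1.injective (congrArg Subtype.val hij)⟩
      left_inv := fun _ => rfl
      right_inv := fun _ => rfl }

theorem sum_descFactorial_of_transitive {k : ℕ} (hk : k ≤ Fintype.card α)
    (h : IsMultiplyPretransitive G α k) :
    ∑ g : G, ((Nat.card (fixedBy α g)).descFactorial k) = Nat.card G := by
  rw [sum_descFactorial k]
  haveI : Nonempty (Fin k ↪ α) :=
    Function.Embedding.nonempty_of_card_le (by simpa using hk)
  haveI : Subsingleton (orbitRel.Quotient G (Fin k ↪ α)) :=
    pretransitive_iff_subsingleton_quotient _ _ |>.1 h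
  haveI : Nonempty (orbitRel.Quotient G (Fin k ↪ α)) := Nonempty.map (Quotient.mk'') inferInstance
  rw [show Nat.card (Quotient (orbitRel G (Fin k ↪ α))) = 1 from
    Nat.card_eq_one_iff_unique.2 ⟨‹_›, ‹_›⟩, one_mul]

theorem sum_fixedBy (h3 : IsMultiplyPretransitive G α 3) (h3α : 3 ≤ Fintype.card α) :
    (∑ g : G, (Nat.card (fixedBy α g) : ℂ)) = Nat.card G ∧
    (∑ g : G, (Nat.card (fixedBy α g) : ℂ) ^ 2) = 2 * Nat.card G := by
  have hle : 3 ≤ Nat.card α := by rwa [Nat.card_eq_fintype_card]
  have d1 : ∀ n : ℕ, n.descFactorial 1 = n := fun n => by simp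
  have d2 : ∀ n : ℕ, n.descFactorial 2 + n = n * n := fun n => by
    cases n with
    | zero => rfl
    | succ n => simp only [Nat.descFactorial_succ, Nat.descFactorial_zero, Nat.succ_sub_one,
        Nat.sub_zero]; ring
  have s1 : ∑ g : G, (Nat.card (fixedBy α g)) = Nat.card G := by
    rw [← sum_descFactorial_of_transitive (G := G) (k := 1) (by omega)
      (isMultiplyPretransitive_of_le (n := 3) (by norm_num) hle)]
    exact Finset.sum_congr rfl fun g _ => (d1 _).symm
  have s2 : ∑ g : G, (Nat.card (fixedBy α g)) ^ 2 = 2 * Nat.card G := by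
    rw [two_mul]
    conv_rhs => arg 1; rw [← sum_descFactorial_of_transitive (G := G) (k := 2) (by omega)
      (isMultiplyPretransitive_of_le (n := 3) (by norm_num) hle)]
    conv_rhs => arg 2; rw [← s1]
    rw [← Finset.sum_add_distrib]
    exact Finset.sum_congr rfl fun g _ => by rw [pow_two, d2]
  exact ⟨by exact_mod_cast s1, by exact_mod_cast s2⟩

variable (h3 : IsMultiplyPretransitive G α 3)

include hα hp5 h3 in
theorem isIrrCharacter_permPi : Cfsg.IsIrrCharacter G (permPi G) := by
  obtain ⟨s1, s2⟩ := sum_fixedBy h3 (by omega)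
  have hG : (Nat.card G : ℂ) ≠ 0 := Char.card_ne_zero
  have hF : Cfsg.IsCharacter G (fun g : G => (Nat.card (fixedBy α g) : ℂ)) :=
    Char.isCharacter_fixedBy α
  have hc1 : Cfsg.classInner (fun g : G => (Nat.card (fixedBy α g) : ℂ)) (fun _ => (1 : ℂ)) = 1 := by
    simp only [Cfsg.classInner, map_one, mul_one, s1, inv_mul_cancel₀ hG]
  have hP : permPi G = (fun g : G => (Nat.card (fixedBy α g) : ℂ)) - fun _ => (1 : ℂ) := rfl
  have hclass : Cfsg.IsClassFunction G (permPi G) := fun g h => by
    simp only [permPi, card_fixedBy_conj]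
  refine Char.isIrrCharacter_iff.2 ⟨Char.isCharacter_iff.2 ⟨hclass, fun ψ => ?_⟩, ?_⟩
  · obtain ⟨m, hm⟩ := Char.IsCharacter.exists_nat_classInner hF (Char.irr_isCharacter ψ)
    rw [hP, Char.classInner_sub_left, hm]
    by_cases hψ : ψ = Char.trivialChar G
    · subst hψ
      refine ⟨0, ?_⟩
      rw [← hm, show (Char.trivialChar G).1 = fun _ : G => (1 : ℂ) from rfl, hc1,
        Char.classInner_irr_self Char.isIrrCharacter_one, sub_self, Nat.cast_zero]
    · refine ⟨m, ?_⟩
      rw [show (fun _ : G => (1 : ℂ)) = (Char.trivialChar G).1 from rfl,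
        Char.classInner_irr, if_neg (Ne.symm hψ), sub_zero]
  · simp only [Cfsg.classInner, permPi, map_sub, map_natCast, map_one]
    rw [show ∑ g : G, ((Nat.card (fixedBy α g) : ℂ) - 1) * ((Nat.card (fixedBy α g) : ℂ) - 1) =
      (∑ g : G, (Nat.card (fixedBy α g) : ℂ) ^ 2) - 2 * (∑ g : G, (Nat.card (fixedBy α g) : ℂ)) +
        ∑ _g : G, (1 : ℂ) by
      rw [Finset.mul_sum, ← Finset.sum_sub_distrib, ← Finset.sum_add_distrib]
      exact Finset.sum_congr rfl fun g _ => by ring, s1, s2, Finset.sum_const, Finset.card_univ,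
      ← Nat.card_eq_fintype_card, nsmul_eq_mul, mul_one]
    field_simp
    ring

variable {c : G} (hc : orderOf c = p)
  (hN : Nat.card (Subgroup.normalizer ((Subgroup.zpowers c : Subgroup G) : Set G)) = 2 * p)

/-- The sum of the two linear characters `±i` subtracted from two. -/
noncomputable def excep (c : G) (lam : Subgroup.zpowers c →* ℂ) : G → ℂ :=
  Cfsg.indFun (Subgroup.zpowers c) (fun h => 1 - lam h) + permPi G - fun _ => (1 : ℂ)

include hα hc in
/-- A family of linear characters of the Sylow subgroup, indexed by the residues mod `p`. -/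
theorem exists_linear_family :
    ∃ (idx : Subgroup.zpowers c ≃ ZMod p) (lam : ZMod p → (Subgroup.zpowers c →* ℂ)),
      idx 1 = 0 ∧ (∀ x y, idx (x * y) = idx x + idx y) ∧
      ∀ i x, lam i x = ZMod.stdAddChar (i * idx x) := by
  obtain ⟨e, he⟩ := exists_coords_pow hα hc
  let idx : Subgroup.zpowers c → ZMod p := fun x => e.symm ((x : G) • e 0)
  have hpow : ∀ x : Subgroup.zpowers c, ∀ i, (x : G) • e i = e (i + idx x) := by
    intro x i
    obtain ⟨n, hn⟩ : ∃ n : ℕ, c ^ n = (x : G) := mem_powers_iff_mem_zpowers.2 x.2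
    simp only [idx, ← hn, he, Equiv.symm_apply_apply, zero_add]
  have hadd : ∀ x y, idx (x * y) = idx x + idx y := by
    intro x y
    show e.symm (((x * y : Subgroup.zpowers c) : G) • e 0) = _
    rw [Subgroup.coe_mul, mul_smul, hpow y 0, hpow x, zero_add, Equiv.symm_apply_apply, add_comm]
  have h1 : idx 1 = 0 := by simp [idx]
  have hinj : Function.Injective idx := by
    intro x y hxy
    refine Subtype.ext (Subtype.ext (Equiv.ext fun a => ?_))
    obtain ⟨i, rfl⟩ := e.surjective a
    show (x : G) • e i = (y : G) • e i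
    rw [hpow, hpow, hxy]
  haveI : Fintype (Subgroup.zpowers c) := Fintype.ofFinite _
  have hbij : Function.Bijective idx := (Fintype.bijective_iff_injective_and_card _).2
    ⟨hinj, by rw [← Nat.card_eq_fintype_card, Nat.card_zpowers, hc, ZMod.card]⟩
  refine ⟨Equiv.ofBijective idx hbij, fun i =>
    { toFun := fun x => ZMod.stdAddChar (i * idx x)
      map_one' := by rw [h1, mul_zero, AddChar.map_zero_eq_one]
      map_mul' := fun x y => by rw [hadd, mul_add, AddChar.map_add_eq_mul] },
    h1, hadd, fun i x => rfl⟩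

include hα hp5 hc hN h3 in
set_option maxHeartbeats 1000000 in
/-- The exceptional characters have degree `p - 2`. -/
theorem isIrrCharacter_excep (idx : Subgroup.zpowers c ≃ ZMod p)
    (lam : Subgroup.zpowers c →* ℂ) (hidx : ∀ x y, idx (x * y) = idx x + idx y) (i : ZMod p)
    (hi : i ≠ 0) (hlam : ∀ x, lam x = ZMod.stdAddChar (i * idx x)) :
    Cfsg.IsIrrCharacter G (excep c lam) := by
  haveI : NeZero p := ⟨hp.out.ne_zero⟩
  haveI : Fintype (Subgroup.zpowers c) := Fintype.ofFinite _
  set φ : Subgroup.zpowers c → ℂ := fun h => 1 - lam h with hφ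
  have hidx1 : idx 1 = 0 := by simpa using hidx 1 1
  have hφ1 : φ 1 = 0 := by simp [hφ]
  have hsum : ∀ j : ZMod p, j ≠ 0 →
      ∑ h : Subgroup.zpowers c, (ZMod.stdAddChar (j * idx h) : ℂ) = 0 := by
    intro j hj
    rw [Equiv.sum_comp idx (fun x => (ZMod.stdAddChar (j * x) : ℂ))]
    simp only [mul_comm j]
    rw [AddChar.sum_mulShift j (ZMod.isPrimitive_stdAddChar p), if_neg hj, Nat.cast_zero]
  have hlam0 : ∑ h : Subgroup.zpowers c, lam h = 0 := by simp only [hlam]; exact hsum i hi
  have hcardP : (Fintype.card (Subgroup.zpowers c) : ℂ) = p := by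
    rw [← Nat.card_eq_fintype_card, Nat.card_zpowers, hc]
  have hp0 : (p : ℂ) ≠ 0 := Nat.cast_ne_zero.2 hp.out.ne_zero
  have hone : Cfsg.classInner φ (fun _ => (1 : ℂ)) = 1 := by
    simp only [Cfsg.classInner, map_one, mul_one, hφ, Finset.sum_sub_distrib, hlam0,
      Finset.sum_const, Finset.card_univ, nsmul_eq_mul, sub_zero, Nat.card_eq_fintype_card, hcardP]
    exact inv_mul_cancel₀ hp0
  have hPi : Cfsg.classInner φ (fun h : Subgroup.zpowers c => permPi G h) = -1 := by
    have : ∀ h : Subgroup.zpowers c, φ h * conj (permPi G h) = -φ h := by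
      intro h
      by_cases hh : h = 1
      · subst hh; simp [hφ1]
      · rw [permPi, card_fixedBy_eq_zero hα hc h.2 (fun e => hh (Subtype.ext e))]
        simp
    rw [Cfsg.classInner, Finset.sum_congr rfl (fun h _ => this h), Finset.sum_neg_distrib, mul_neg]
    simp only [Cfsg.classInner, map_one, mul_one] at hone
    rw [hone]
  set θ := Cfsg.indFun (Subgroup.zpowers c) φ with hθ
  have hθθ : Cfsg.classInner θ θ = 3 := by
    rw [hθ, Char.classInner_indFun _ φ (Char.isClassFunction_indFun _ φ), Cfsg.classInner]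
    have : ∀ h : Subgroup.zpowers c, φ h * conj (Cfsg.indFun (Subgroup.zpowers c) φ h) =
        3 - 3 * lam h - (ZMod.stdAddChar (-i * idx h) : ℂ) + (ZMod.stdAddChar ((i + i) * idx h) : ℂ) := by
      intro h
      have hinv : idx h⁻¹ = -idx h := by
        have := hidx h h⁻¹
        rw [mul_inv_cancel, hidx1] at this
        exact (neg_eq_of_add_eq_zero_right this.symm).symm
      rw [indFun_apply_mem hα hp5 hc hN hφ1]
      simp only [hφ, hlam, map_add, map_sub, map_one, hinv, mul_neg, neg_mul, add_mul,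
        AddChar.map_add_eq_mul, ← AddChar.map_neg_eq_conj, neg_neg]
      have h1 : (ZMod.stdAddChar (i * idx h) : ℂ) * ZMod.stdAddChar (-(i * idx h)) = 1 := by
        rw [← AddChar.map_add_eq_mul, add_neg_cancel, AddChar.map_zero_eq_one]
      linear_combination h1
    rw [Finset.sum_congr rfl (fun h _ => this h), Finset.sum_add_distrib, Finset.sum_sub_distrib,
      Finset.sum_sub_distrib, ← Finset.mul_sum, hlam0, hsum _ (neg_ne_zero.2 hi),
      hsum _ (fun h => hi ?_)]
    · simp only [Finset.sum_const, Finset.card_univ, nsmul_eq_mul, Nat.card_eq_fintype_card,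
        mul_zero, sub_zero, add_zero, hcardP]
      rw [← mul_assoc, inv_mul_cancel₀ hp0, one_mul]
    · rw [← two_mul, mul_eq_zero] at h
      refine h.resolve_left fun h2 => ?_
      have := (Nat.prime_dvd_prime_iff_eq hp.out Nat.prime_two).1
        ((ZMod.natCast_eq_zero_iff 2 p).1 (by exact_mod_cast h2))
      omega
  have hπ := isIrrCharacter_permPi hα hp5 h3
  have hθ1 : Cfsg.classInner θ (fun _ => (1 : ℂ)) = 1 := by
    rw [hθ, Char.classInner_indFun _ φ (fun _ _ => rfl)]
    exact hone
  have hθπ : Cfsg.classInner θ (permPi G) = -1 := by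
    rw [hθ, Char.classInner_indFun _ φ
      (Char.IsCharacter.isClassFunction (Char.IsIrrCharacter.isCharacter hπ))]
    exact hPi
  have hne : permPi G ≠ fun _ => (1 : ℂ) := by
    intro h
    have := congrFun h (1 : G)
    rw [permPi, card_fixedBy_one hα] at this
    have : (p : ℂ) = ((2 : ℕ) : ℂ) := by push_cast; linear_combination this
    have := Nat.cast_injective this
    omega
  set X := θ + permPi G - fun _ => (1 : ℂ) with hX
  have hnorm : Cfsg.classInner X X = 1 := by
    simp only [hX, Char.classInner_sub_left, Char.classInner_sub_right, Char.classInner_add_left,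
      Char.classInner_add_right, hθθ, hθ1, hθπ, Char.classInner_irr_self hπ,
      Char.classInner_irr_self Char.isIrrCharacter_one,
      Char.classInner_irr_of_ne hπ Char.isIrrCharacter_one hne,
      Char.classInner_irr_of_ne Char.isIrrCharacter_one hπ hne.symm]
    rw [← Char.conj_classInner θ (permPi G), hθπ, ← Char.conj_classInner θ (fun _ => (1 : ℂ)), hθ1]
    simp
    norm_num
  -- a class function of norm one with positive degree
  have hgen : Cfsg.IsGeneralizedCharacter G X := by
    refine Char.IsGeneralizedCharacter.sub (Char.IsGeneralizedCharacter.add ?_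
      (Char.IsCharacter.isGeneralized (Char.IsIrrCharacter.isCharacter hπ)))
      (Char.IsCharacter.isGeneralized Char.isCharacter_one)
    refine Char.isGeneralizedCharacter_indFun _ ?_
    exact Char.IsGeneralizedCharacter.sub (Char.IsCharacter.isGeneralized Char.isCharacter_one)
      (Char.IsCharacter.isGeneralized (Char.IsIrrCharacter.isCharacter
        (Char.isIrrCharacter_of_monoidHom lam)))
  have hX1 : X 1 = ((p - 2 : ℕ) : ℂ) := by
    simp only [hX, Pi.sub_apply, Pi.add_apply, hθ, Char.indFun_apply_one, hφ1, mul_zero, permPi,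
      card_fixedBy_one hα]
    rw [Nat.cast_sub (by omega)]
    push_cast
    ring
  exact isIrr_of_norm_one hgen hnorm (p - 2) (by omega) hX1

include hα hp5 hc hN h3 in
set_option maxHeartbeats 1000000 in
/-- In a triply transitive group of degree `p` with dihedral Sylow normaliser every involution
fixes exactly one letter. -/
theorem card_fixedBy_involution {v : G} (hv : v * v = 1) (hv1 : v ≠ 1) :
    Nat.card (fixedBy α v) = 1 := by
  haveI : NeZero p := ⟨hp.out.ne_zero⟩
  haveI : Fintype (Subgroup.zpowers c) := Fintype.ofFinite _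
  obtain ⟨u, huu, huc, huP, hdec⟩ := exists_inverter hα hp5 hc hN
  obtain ⟨idx, lam, hidx1, hidx, hlam⟩ := exists_linear_family hα hc
  set fv := Nat.card (fixedBy α v) with hfv
  have hfu : Nat.card (fixedBy α u) = 1 := card_fixedBy_of_inverts hα (by omega) hc huc
  have hπ := isIrrCharacter_permPi hα hp5 h3
  let Pc : Cfsg.IrrCharacter G := ⟨permPi G, hπ⟩
  let E : Finset (Cfsg.IrrCharacter G) :=
    Finset.univ.filter fun χ => χ ≠ Char.trivialChar G ∧ χ ≠ Pc ∧ χ.1 c ≠ 0
  -- values off the conjugates of the Sylow subgroup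
  have hoff : ∀ (w : G) (φ : Subgroup.zpowers c → ℂ), w * w = 1 → w ≠ 1 →
      Cfsg.indFun (Subgroup.zpowers c) φ w = 0 := by
    intro w φ hw hw1
    refine Char.indFun_eq_zero_of_forall_notMem _ φ fun x hx => hw1 ?_
    have hd := hc ▸ orderOf_dvd_of_mem_zpowers hx
    have h2 : orderOf (x⁻¹ * w * x) ∣ 2 := by
      rw [orderOf_dvd_iff_pow_eq_one, pow_two]
      calc x⁻¹ * w * x * (x⁻¹ * w * x) = x⁻¹ * (w * w) * x := by group
        _ = 1 := by rw [hw]; group
    have h1 : orderOf (x⁻¹ * w * x) = 1 := Nat.eq_one_of_dvd_coprimes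
      ((Nat.coprime_primes hp.out Nat.prime_two).2 (by omega)) hd h2
    rw [orderOf_eq_one_iff] at h1
    calc w = x * (x⁻¹ * w * x) * x⁻¹ := by group
      _ = 1 := by rw [h1]; group
  -- the characters in `E` are exceptional
  have hE : ∀ χ ∈ E, χ.1 1 = ((p - 2 : ℕ) : ℂ) ∧ χ.1 u = -1 ∧ χ.1 v = (fv : ℂ) - 2 := by
    intro χ hχ
    simp only [E, Finset.mem_filter, Finset.mem_univ, true_and] at hχ
    obtain ⟨hne1, hneπ, hc0⟩ := hχ
    obtain ⟨i, hi, hiχ⟩ : ∃ i : ZMod p, i ≠ 0 ∧ χ.1 = excep c (lam i) := by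
      by_contra! hno
      apply hc0
      set F : Subgroup.zpowers c → ℂ := fun h => conj (χ.1 h) with hF
      have hA : ∀ i : ZMod p, ∑ h : Subgroup.zpowers c, lam i h * F h =
          ∑ h : Subgroup.zpowers c, F h := by
        intro i
        by_cases hi : i = 0
        · subst hi
          simp [hlam]
        · have hirr := isIrrCharacter_excep hα hp5 h3 hc hN idx (lam i) hidx i hi (hlam i)
          have h0 := Char.classInner_irr_of_ne hirr χ.2 (hno i hi).symm
          rw [excep, Char.classInner_sub_left, Char.classInner_add_left,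
            Char.classInner_irr_of_ne hπ χ.2 (fun h => hneπ (Subtype.ext h.symm)),
            Char.classInner_irr_of_ne Char.isIrrCharacter_one χ.2
              (fun h => hne1 (Subtype.ext h.symm)),
            add_zero, sub_zero, Char.classInner_indFun _ _
              (Char.IsCharacter.isClassFunction (Char.irr_isCharacter χ)), Cfsg.classInner,
            mul_eq_zero] at h0
          rcases h0 with h0 | h0
          · simp [Char.card_ne_zero] at h0
          simp only [sub_mul, one_mul, Finset.sum_sub_distrib, sub_eq_zero] at h0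
          exact h0.symm
      -- Fourier inversion
      have hsumi : ∀ b : ZMod p, (∑ i : ZMod p, (ZMod.stdAddChar (i * b) : ℂ)) =
          if b = 0 then (p : ℂ) else 0 := by
        intro b
        rw [AddChar.sum_mulShift b (ZMod.isPrimitive_stdAddChar p)]
        split_ifs <;> simp
      have h2 : ∑ i : ZMod p, (ZMod.stdAddChar (-i * idx ⟨c, Subgroup.mem_zpowers c⟩) : ℂ) *
          ∑ h : Subgroup.zpowers c, lam i h * F h = (p : ℂ) * F ⟨c, Subgroup.mem_zpowers c⟩ := by
        simp only [hlam, Finset.mul_sum]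
        rw [Finset.sum_comm, Finset.sum_eq_single (⟨c, Subgroup.mem_zpowers c⟩ : Subgroup.zpowers c)]
        · simp only [← mul_assoc, ← AddChar.map_add_eq_mul, neg_mul, neg_add_cancel,
            AddChar.map_zero_eq_one, one_mul, Finset.sum_const, Finset.card_univ, ZMod.card,
            nsmul_eq_mul]
        · intro h _ hh
          rw [← Finset.sum_congr rfl fun i _ => (mul_assoc _ _ _), ← Finset.sum_mul]
          simp only [← AddChar.map_add_eq_mul, neg_mul]
          rw [show (∑ i : ZMod p, (ZMod.stdAddChar (-(i * idx ⟨c, Subgroup.mem_zpowers c⟩) +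
              i * idx h) : ℂ)) = ∑ i : ZMod p,
              (ZMod.stdAddChar (i * (idx h - idx ⟨c, Subgroup.mem_zpowers c⟩)) : ℂ) from
            Finset.sum_congr rfl fun i _ => by congr 1; ring, hsumi,
            if_neg (sub_ne_zero.2 fun h' => hh (idx.injective h')), zero_mul]
        · exact fun h => absurd (Finset.mem_univ _) h
      rw [Finset.sum_congr rfl (fun i _ => by rw [hA i]), ← Finset.sum_mul] at h2
      have hcne : idx ⟨c, Subgroup.mem_zpowers c⟩ ≠ 0 := by
        rw [← hidx1]
        intro h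
        have h' : c = 1 := congrArg Subtype.val (idx.injective h)
        rw [h', orderOf_one] at hc
        omega
      have hz : ∑ i : ZMod p, (ZMod.stdAddChar (-i * idx ⟨c, Subgroup.mem_zpowers c⟩) : ℂ) = 0 := by
        have := hsumi (-idx ⟨c, Subgroup.mem_zpowers c⟩)
        rw [if_neg (neg_ne_zero.2 hcne)] at this
        simpa [neg_mul, mul_neg] using this
      rw [hz, zero_mul, eq_comm, mul_eq_zero] at h2
      have := h2.resolve_left (Nat.cast_ne_zero.2 hp.out.ne_zero)
      simpa [hF] using this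
    have hu1 : u ≠ 1 := fun h => huP (h ▸ one_mem _)
    rw [hiχ]
    refine ⟨?_, ?_, ?_⟩
    · simp only [excep, Pi.sub_apply, Pi.add_apply, Char.indFun_apply_one, map_one, sub_self,
        mul_zero, permPi, card_fixedBy_one hα]
      rw [Nat.cast_sub (by omega)]
      push_cast
      ring
    · simp only [excep, Pi.sub_apply, Pi.add_apply, hoff u _ huu hu1, permPi, hfu]
      norm_num
    · simp only [excep, Pi.sub_apply, Pi.add_apply, hoff v _ hv hv1, permPi, ← hfv]
      ring
  have hc1 : c ≠ 1 := fun h => by rw [h, orderOf_one] at hc; omega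
  have hPic : permPi G c = -1 := by
    rw [permPi, card_fixedBy_eq_zero hα hc (Subgroup.mem_zpowers c) hc1]; simp
  have hneπ1 : Pc ≠ Char.trivialChar G := fun h => by
    have := congrArg (fun χ : Cfsg.IrrCharacter G => χ.1 c) h
    simp only [Pc, hPic, Char.trivialChar] at this
    norm_num at this
  -- splitting a sum over all characters
  have hsplit : ∀ F : Cfsg.IrrCharacter G → ℂ,
      ∑ χ, F χ * conj (χ.1 c) = F (Char.trivialChar G) * conj ((Char.trivialChar G).1 c) +
        F Pc * conj (Pc.1 c) + ∑ χ ∈ E, F χ * conj (χ.1 c) := by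
    intro F
    rw [← Finset.sum_subset (Finset.subset_univ ({Char.trivialChar G, Pc} ∪ E)) fun χ _ hχ => ?_,
      Finset.sum_union ?_, Finset.sum_pair hneπ1.symm]
    · rw [Finset.disjoint_left]
      intro χ hχ hχE
      simp only [E, Finset.mem_filter, Finset.mem_univ, true_and] at hχE
      simp only [Finset.mem_insert, Finset.mem_singleton] at hχ
      exact hχ.elim hχE.1 hχE.2.1
    · simp only [E, Finset.mem_union, Finset.mem_insert, Finset.mem_singleton, Finset.mem_filter,
        Finset.mem_univ, true_and, not_or, not_and, not_not] at hχ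
      rw [hχ.2 hχ.1.1 hχ.1.2, map_zero, mul_zero]
  have hT : ∑ χ ∈ E, conj (χ.1 c) = 1 := by
    have h := Char.sum_irr_mul_conj (1 : G) c
    rw [if_neg (fun h : IsConj 1 c => hc1 (isConj_one_right.1 h)), hsplit,
      Finset.sum_congr rfl (fun χ hχ => by rw [(hE χ hχ).1]), ← Finset.mul_sum] at h
    have hπ1 : permPi G 1 = (p : ℂ) - 1 := by rw [permPi, card_fixedBy_one hα]
    simp only [Char.trivialChar, Pc, hPic, map_neg, map_one, hπ1] at h
    rw [Nat.cast_sub (by omega)] at h
    push_cast at h
    have hp2 : (p : ℂ) - 2 ≠ 0 := by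
      rw [sub_ne_zero]; exact_mod_cast (by omega : p ≠ 2)
    exact mul_left_cancel₀ hp2 (by linear_combination h)
  have hS : ∑ χ : Cfsg.IrrCharacter G, χ.1 u * χ.1 v * conj (χ.1 c) / χ.1 1 =
      ((p : ℂ) - fv) / ((p : ℂ) - 2) := by
    have e : ∀ χ : Cfsg.IrrCharacter G, χ.1 u * χ.1 v * conj (χ.1 c) / χ.1 1 =
        (χ.1 u * χ.1 v / χ.1 1) * conj (χ.1 c) := fun χ => by ring
    rw [Finset.sum_congr rfl (fun χ _ => e χ), hsplit,
      Finset.sum_congr rfl (fun χ hχ => by rw [(hE χ hχ).1, (hE χ hχ).2.1, (hE χ hχ).2.2]),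
      ← Finset.mul_sum, hT, mul_one, Nat.cast_sub (by omega)]
    simp only [Char.trivialChar, Pc, hPic, map_one, mul_one, permPi, hfu, Nat.cast_one, sub_self,
      zero_mul, zero_div, add_zero, div_one]
    have hp2 : (p : ℂ) - 2 ≠ 0 := by
      rw [sub_ne_zero]; exact_mod_cast (by omega : p ≠ 2)
    push_cast
    field_simp
    ring
  rw [BlockCount.sum_irr_mul_mul_conj_div] at hS
  have hne0 : Nat.card {x : G // IsConj (u * (x * v * x⁻¹)) c} ≠ 0 := by
    intro h
    rw [h, Nat.cast_zero, mul_zero, zero_div, eq_comm, div_eq_zero_iff] at hS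
    rcases hS with hS | hS
    · have : fv = p := by exact_mod_cast (sub_eq_zero.1 hS).symm
      exact (card_fixedBy_lt hα hv1).ne this
    · have : p = 2 := by exact_mod_cast (sub_eq_zero.1 hS)
      omega
  obtain ⟨⟨x, hx⟩⟩ := (Nat.card_ne_zero.1 hne0).1
  set w := x * v * x⁻¹ with hw
  have hww : w * w = 1 := by
    rw [hw]; calc x * v * x⁻¹ * (x * v * x⁻¹) = x * (v * v) * x⁻¹ := by group
      _ = 1 := by rw [hv]; group
  have hc' : orderOf (u * w) = p := by
    obtain ⟨z, hz⟩ := isConj_iff.1 hx
    rw [← hc, ← hz, show z * (u * w) * z⁻¹ = MulAut.conj z (u * w) from rfl, MulEquiv.orderOf_eq]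
  have hinv : w * (u * w) * w⁻¹ = (u * w)⁻¹ := by
    rw [mul_inv_rev u w, inv_eq_of_mul_eq_one_right hww, inv_eq_of_mul_eq_one_right huu]
    calc w * (u * w) * w = w * u * (w * w) := by group
      _ = w * u := by rw [hww, mul_one]
  have := card_fixedBy_of_inverts hα (by omega) hc' hinv
  rwa [hw, card_fixedBy_conj] at this

end Chars

end Cfsg.Agent.Exceptional
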