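import Cfsg.Agent.Lib.Exceptional.Wreath2
import Mathlib.Data.Fintype.Sigma
import Mathlib.Data.Fintype.Prod
import Mathlib.Data.ZMod.Basic
import Mathlib.Tactic.LinearCombination

/-!
# The group `3³ : S₄` of order 648

Elements act on the points `(i, x)`, `i, x ∈ ZMod 3`, by `(i, x) ↦ (p i, ± x + t)`, the signs and
the sign of `p` having product one.
-/

set_option autoImplicit false

namespace Cfsg.Agent.Exceptional.Nine

open Cfsg

open Wreath2 (D act3 act3_one act3_mul sgnD)

/-- The parity of an element of `D`. -/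
def odd : D → Bool
  | .r _ => false
  | .sr _ => true

/-- The translation part of an element of `D`. -/
def shift : D → ZMod 3
  | .r i => i
  | .sr i => -i

/-- Translations, two of the three signs, and the permutation of the three indices. -/
structure W where
  /-- Translation. -/
  t0 : ZMod 3
  /-- Translation. -/
  t1 : ZMod 3
  /-- Translation. -/
  t2 : ZMod 3
  /-- Sign. -/
  e0 : Bool
  /-- Sign. -/
  e1 : Bool
  /-- Permutation. -/
  p : D
  deriving DecidableEq

instance : Fintype W :=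
  Fintype.ofEquiv (ZMod 3 × ZMod 3 × ZMod 3 × Bool × Bool × D)
    ⟨fun x => ⟨x.1, x.2.1, x.2.2.1, x.2.2.2.1, x.2.2.2.2.1, x.2.2.2.2.2⟩,
      fun g => (g.t0, g.t1, g.t2, g.e0, g.e1, g.p), fun _ => rfl, fun _ => rfl⟩

/-- The value at an index of a triple. -/
def get3 {α : Type} (a b c : α) (i : ZMod 3) : α := if i = 0 then a else if i = 1 then b else c

/-- The translations. -/
def tt (g : W) : ZMod 3 → ZMod 3 := get3 g.t0 g.t1 g.t2

/-- The signs; `true` stands for minus one. -/
def ee (g : W) : ZMod 3 → Bool := get3 g.e0 g.e1 (xor (xor g.e0 g.e1) (odd g.p))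

/-- The sign as a number. -/
def sg (b : Bool) : ZMod 3 := if b then 2 else 1

/-- The element with given translations and signs. -/
def ofFun (t : ZMod 3 → ZMod 3) (e : ZMod 3 → Bool) (p : D) : W :=
  ⟨t 0, t 1, t 2, e 0, e 1, p⟩

instance : Mul W :=
  ⟨fun g h => ofFun (fun i => tt g i + sg (ee g i) * tt h (act3 g.p⁻¹ i))
    (fun i => xor (ee g i) (ee h (act3 g.p⁻¹ i))) (g.p * h.p)⟩

instance : One W := ⟨⟨0, 0, 0, false, false, 1⟩⟩

instance : Inv W :=
  ⟨fun g => ofFun (fun i => -(sg (ee g (act3 g.p i)) * tt g (act3 g.p i)))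
    (fun i => ee g (act3 g.p i)) g.p⁻¹⟩

theorem tt_ofFun (t : ZMod 3 → ZMod 3) (e : ZMod 3 → Bool) (p : D) (i : ZMod 3) :
    tt (ofFun t e p) i = t i := by
  fin_cases i <;> rfl

theorem ext' {g h : W} (ht : ∀ i, tt g i = tt h i) (he : ∀ i, ee g i = ee h i) (hp : g.p = h.p) :
    g = h := by
  obtain ⟨a, b, c, x, y, p⟩ := g
  obtain ⟨a', b', c', x', y', p'⟩ := h
  obtain rfl : p = p' := hp
  have h0 : a = a' := ht 0
  have h1 : b = b' := ht 1
  have h2 : c = c' := ht 2
  have h3 : x = x' := he 0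
  have h4 : y = y' := he 1
  rw [h0, h1, h2, h3, h4]

theorem mul_p (g h : W) : (g * h).p = g.p * h.p := rfl

theorem tt_mul (g h : W) (i : ZMod 3) :
    tt (g * h) i = tt g i + sg (ee g i) * tt h (act3 g.p⁻¹ i) :=
  tt_ofFun _ _ _ i

theorem parity : ∀ (x y : D) (a b c d : Bool) (i : ZMod 3),
    get3 (xor (get3 a b (xor (xor a b) (odd x)) 0) (get3 c d (xor (xor c d) (odd y)) (act3 x⁻¹ 0)))
      (xor (get3 a b (xor (xor a b) (odd x)) 1) (get3 c d (xor (xor c d) (odd y)) (act3 x⁻¹ 1)))
      (xor (xor (xor (get3 a b (xor (xor a b) (odd x)) 0) (get3 c d (xor (xor c d) (odd y)) (act3 x⁻¹ 0)))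
        (xor (get3 a b (xor (xor a b) (odd x)) 1) (get3 c d (xor (xor c d) (odd y)) (act3 x⁻¹ 1))))
        (odd (x * y))) i =
      xor (get3 a b (xor (xor a b) (odd x)) i) (get3 c d (xor (xor c d) (odd y)) (act3 x⁻¹ i)) := by
  decide +kernel

theorem ee_mul (g h : W) (i : ZMod 3) : ee (g * h) i = xor (ee g i) (ee h (act3 g.p⁻¹ i)) :=
  parity g.p h.p g.e0 g.e1 h.e0 h.e1 i

theorem parity_inv : ∀ (x : D) (a b : Bool) (i : ZMod 3),
    get3 (get3 a b (xor (xor a b) (odd x)) (act3 x 0)) (get3 a b (xor (xor a b) (odd x)) (act3 x 1))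
      (xor (xor (get3 a b (xor (xor a b) (odd x)) (act3 x 0)) (get3 a b (xor (xor a b) (odd x)) (act3 x 1)))
        (odd x⁻¹)) i = get3 a b (xor (xor a b) (odd x)) (act3 x i) := by
  decide +kernel

theorem ee_inv (g : W) (i : ZMod 3) : ee g⁻¹ i = ee g (act3 g.p i) := parity_inv g.p g.e0 g.e1 i

theorem sg_xor : ∀ a b : Bool, sg (xor a b) = sg a * sg b := by decide

theorem sg_sq : ∀ a : Bool, sg a * sg a = 1 := by decide

theorem act3_inv_cancel (x : D) (i : ZMod 3) : act3 x (act3 x⁻¹ i) = i := by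
  rw [← act3_mul, mul_inv_cancel, act3_one]

theorem one_p : (1 : W).p = 1 := rfl

theorem one_tt (i : ZMod 3) : tt 1 i = 0 := by fin_cases i <;> rfl

theorem one_ee (i : ZMod 3) : ee 1 i = false := by fin_cases i <;> rfl

instance : Group W :=
  Group.ofLeftAxioms
    (fun g h k => by
      refine ext' (fun i => ?_) (fun i => ?_) (mul_assoc g.p h.p k.p)
      · simp only [tt_mul, ee_mul, mul_p, mul_inv_rev, act3_mul, sg_xor]
        ring
      · simp only [ee_mul, mul_p, mul_inv_rev, act3_mul, Bool.xor_assoc])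
    (fun g => by
      refine ext' (fun i => ?_) (fun i => ?_) (one_mul g.p)
      · rw [tt_mul, one_p, inv_one, act3_one, one_tt, one_ee]
        exact (zero_add _).trans (one_mul _)
      · rw [ee_mul, one_p, inv_one, act3_one, one_ee, Bool.false_xor])
    (fun g => by
      refine ext' (fun i => ?_) (fun i => ?_) (inv_mul_cancel g.p)
      · rw [tt_mul, ee_inv, show (g⁻¹).p⁻¹ = g.p from inv_inv g.p,
          show tt g⁻¹ i = -(sg (ee g (act3 g.p i)) * tt g (act3 g.p i)) from tt_ofFun _ _ _ i,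
          neg_add_cancel]
        fin_cases i <;> rfl
      · rw [ee_mul, ee_inv, show (g⁻¹).p⁻¹ = g.p from inv_inv g.p, Bool.xor_self]
        fin_cases i <;> rfl)

/-- The image in the quotient `S₄`, as an element with zero translations. -/
def s0 (g : W) : W := ⟨0, 0, 0, g.e0, g.e1, g.p⟩

/-- A translation. -/
def tr (a b c : ZMod 3) : W := ⟨a, b, c, false, false, 1⟩

/-- Membership in the translation subgroup. -/
def isT (g : W) : Bool := !g.e0 && !g.e1 && decide (g.p = 1)

theorem isT_iff {g : W} : isT g = true ↔ g = tr g.t0 g.t1 g.t2 := by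
  obtain ⟨a, b, c, x, y, p⟩ := g
  cases x <;> cases y <;> simp [isT, tr]

/-! ## Monomial characters -/

/-- Triples. -/
abbrev V := ZMod 3 × ZMod 3 × ZMod 3

/-- The value of a triple at an index. -/
def vget (v : V) : ZMod 3 → ZMod 3 := get3 v.1 v.2.1 v.2.2

/-- The triple of a function. -/
def vof (f : ZMod 3 → ZMod 3) : V := (f 0, f 1, f 2)

theorem vget_vof (f : ZMod 3 → ZMod 3) (i : ZMod 3) : vget (vof f) i = f i := by fin_cases i <;> rfl

theorem vext {u v : V} (h : ∀ i, vget u i = vget v i) : u = v :=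
  Prod.ext (h 0) (Prod.ext (h 1) (h 2))

/-- The linear part applied to a triple. -/
def lin (g : W) (v : V) : V := vof fun i => sg (ee g i) * vget v (act3 g.p⁻¹ i)

theorem lin_mul (g h : W) (v : V) : lin (g * h) v = lin g (lin h v) := by
  refine vext fun i => ?_
  simp only [lin, vget_vof, ee_mul, mul_p, mul_inv_rev, act3_mul, sg_xor]
  ring

theorem lin_one (v : V) : lin 1 v = v := by
  revert v; decide +kernel

/-- The number of nonzero entries. -/
def weight (v : V) : ℕ :=
  (if v.1 = 0 then 0 else 1) + (if v.2.1 = 0 then 0 else 1) + (if v.2.2 = 0 then 0 else 1)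

theorem weight_lin_aux : ∀ (a b : Bool) (x : D) (v : V),
    weight (vof fun i => sg (get3 a b (xor (xor a b) (odd x)) i) * vget v (act3 x⁻¹ i)) = weight v := by
  decide +kernel

theorem weight_lin (g : W) (v : V) : weight (lin g v) = weight v :=
  weight_lin_aux g.e0 g.e1 g.p v

/-- The scalar product. -/
def dot (u v : ZMod 3 → ZMod 3) : ZMod 3 := u 0 * v 0 + u 1 * v 1 + u 2 * v 2

/-- The product of the entries. -/
def prod3 (v : V) : ZMod 3 := v.1 * v.2.1 * v.2.2

/-- The twisting term. -/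
def coc (μ : Bool) (g : W) (v : V) : ZMod 3 :=
  dot (tt g) (vget (lin g v)) + if μ then prod3 (lin g v) * shift g.p else 0

theorem perm_sum : ∀ (x : D) (f : ZMod 3 → ZMod 3),
    f (act3 x 0) + f (act3 x 1) + f (act3 x 2) = f 0 + f 1 + f 2 := by
  decide +kernel

theorem dot_orth (g : W) (u : ZMod 3 → ZMod 3) (v : V) :
    dot (fun i => sg (ee g i) * u (act3 g.p⁻¹ i)) (vget (lin g v)) = dot u (vget v) := by
  have h : ∀ i, sg (ee g i) * u (act3 g.p⁻¹ i) * vget (lin g v) i =
      (fun j => u j * vget v j) (act3 g.p⁻¹ i) := fun i => by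
    rw [lin, vget_vof]
    linear_combination (u (act3 g.p⁻¹ i) * vget v (act3 g.p⁻¹ i)) * sg_sq (ee g i)
  simp only [dot, h]
  exact perm_sum g.p⁻¹ fun j => u j * vget v j

theorem prod3_lin : ∀ (a b : Bool) (x : D) (v : V),
    prod3 (vof fun i => sg (get3 a b (xor (xor a b) (odd x)) i) * vget v (act3 x⁻¹ i)) =
      sg (odd x) * prod3 v := by
  decide +kernel

theorem shift_mul : ∀ x y : D, shift (x * y) = sg (odd x) * shift y + shift x := by decide

theorem coc_mul (μ : Bool) (g h : W) (v : V) : coc μ (g * h) v = coc μ g (lin h v) + coc μ h v := by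
  have e1 : dot (tt (g * h)) (vget (lin g (lin h v))) =
      dot (tt g) (vget (lin g (lin h v))) + dot (tt h) (vget (lin h v)) := by
    rw [← dot_orth g (tt h) (lin h v)]
    simp only [dot, tt_mul]
    ring
  have e2 : prod3 (lin g (lin h v)) = sg (odd g.p) * prod3 (lin h v) :=
    prod3_lin g.e0 g.e1 g.p _
  simp only [coc, lin_mul, e1, mul_p]
  cases μ
  · simp
  · simp only [if_true, shift_mul, e2]
    linear_combination (prod3 (lin h v) * shift h.p) * sg_sq (odd g.p)

/-- The triples of a given weight, listed. -/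
def vecs (k : ℕ) : List V :=
  ((List.product [0, 1, 2] (List.product [0, 1, 2] [0, 1, 2])).filter fun v => weight v == k)

/-- The number of fixed triples of weight `k` on which the twist is `c`. -/
def cnt (k : ℕ) (μ : Bool) (g : W) (c : ZMod 3) : ℕ :=
  (vecs k).countP fun v => decide (lin g v = v ∧ coc μ g v = c)

/-- The value of the monomial character. -/
def mono (k : ℕ) (μ : Bool) (g : W) : ℤ := (cnt k μ g 0 : ℤ) - cnt k μ g 1

theorem cnt_symm : ∀ g, cnt 1 false g 1 = cnt 1 false g 2 ∧ cnt 2 false g 1 = cnt 2 false g 2 ∧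
    cnt 3 false g 1 = cnt 3 false g 2 ∧ cnt 3 true g 1 = cnt 3 true g 2 := by
  decide +kernel

theorem vecs_nodup : ∀ k : Fin 4, (vecs k).Nodup := by decide +kernel

theorem mem_vecs : ∀ (k : Fin 4) (v : V), v ∈ vecs k ↔ weight v = k := by decide +kernel

/-! ## The three virtual characters -/

/-- The sign of the permutation. -/
def ε (g : W) : ℤ := if odd g.p then -1 else 1

/-- The character of degree two. -/
def τ (g : W) : ℤ := (([0, 1, 2] : List (ZMod 3)).countP fun i => decide (act3 g.p i = i) : ℕ) - 1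

/-- The signed permutation character of degree three. -/
def ρ' (g : W) : ℤ :=
  (([0, 1, 2] : List (ZMod 3)).map fun i =>
    if act3 g.p i = i then (if ee g i then (-1 : ℤ) else 1) else 0).sum

/-- The three virtual characters. -/
def vec : Fin 3 → W → ℤ
  | 0, g => 1 + τ g + ρ' g - mono 1 false g
  | 1, g => 1 - ε g * ρ' g - mono 1 false g + mono 3 true g
  | 2, g => 1 - τ g - ρ' g + ε g * mono 2 false g - mono 3 false g

/-- Some power of order three lies among the translations. -/
def inS (g : W) : Bool :=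
  let g2 := g * g
  (isT g2 && decide (g2 ≠ 1)) || (isT (g2 * g) && decide (g2 * g ≠ 1)) ||
    (isT (g2 * g2) && decide (g2 * g2 ≠ 1))

/-- The inner products. -/
def gram : Fin 3 → Fin 3 → ℤ := ![![4, 2, -1], ![2, 4, 1], ![-1, 1, 5]]

/-- The first class of involutions. -/
def WA : Finset W := Finset.univ.filter fun g => g.p = 1 ∧ g ≠ 1 ∧ g * g = 1

/-- The second class of involutions. -/
def WB : Finset W := Finset.univ.filter fun g => g.p ≠ 1 ∧ g * g = 1

theorem vec_vanish : ∀ g, inS g = false → vec 0 g = 0 ∧ vec 1 g = 0 ∧ vec 2 g = 0 := by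
  decide +kernel

theorem vec_gram : ∀ k l, ∑ g, vec k g * vec l g = 648 * gram k l := by decide +kernel

theorem vec_sum : ∀ k, ∑ g, vec k g = 648 := by decide +kernel

theorem vec_AA : ∀ k, ∑ a ∈ WA, ∑ b ∈ WA, vec k (a * b) = ![1944, 0, -972] k := by decide +kernel

theorem vec_AB : ∀ k, ∑ a ∈ WA, ∑ b ∈ WB, vec k (a * b) = ![1944, 1944, 972] k := by decide +kernel

theorem vec_BB : ∀ k, ∑ a ∈ WB, ∑ b ∈ WB, vec k (a * b) = ![3888, 1944, 2916] k := by decide +kernel

end Cfsg.Agent.Exceptional.Nine
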