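import Cfsg.Agent.Lib.Exceptional.Wreath2Core

/-!
# A rigid configuration attached to the virtual characters of the group `3³ : S₄`

Three vectors of norms 4, 4, 5 with prescribed second moments force a further entry of degree two.
-/

set_option autoImplicit false

namespace Cfsg.Agent.Exceptional

variable {ι : Type*} [Fintype ι] [DecidableEq ι] {i₀ : ι} {d : ι → ℤ} {p q : ι → ℚ} {K : ℚ}

theorem isSigns_of_norm_five {v : ι → ℤ} (hd0 : d i₀ = 1)
    (h0 : v i₀ = 1) (hn : v ⬝ᵥ v = 5) (hdeg : v ⬝ᵥ d = 0) : IsSigns i₀ v 4 := by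
  have hsplit : ∑ i ∈ rest i₀ v, v i * v i = 4 := by
    have h : ∑ i ∈ Finset.univ.erase i₀, v i * v i = 4 := by
      have := Finset.add_sum_erase Finset.univ (fun i => v i * v i) (Finset.mem_univ i₀)
      simp only [h0, mul_one] at this
      rw [dotProduct] at hn
      linarith
    rw [rest, Finset.sum_filter_of_ne (p := fun i => v i ≠ 0) (fun i _ hi h => hi (by rw [h, mul_zero]))]
    exact h
  have hb : ∀ i ∈ rest i₀ v, v i = 1 ∨ v i = -1 := by
    intro i hi
    have hle : v i * v i ≤ 4 := hsplit ▸ Finset.single_le_sum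
      (f := fun j => v j * v j) (fun j _ => mul_self_nonneg _) hi
    have hne := (mem_rest.1 hi).2
    have h1 : -2 ≤ v i := by nlinarith
    have h2 : v i ≤ 2 := by nlinarith
    by_contra hcon
    have h4 : v i * v i = 4 := by
      rcases (show v i = 2 ∨ v i = -2 by omega) with h | h <;> rw [h] <;> norm_num
    have hsingle : rest i₀ v = {i} := by
      rw [Finset.eq_singleton_iff_unique_mem]
      refine ⟨hi, fun j hj => ?_⟩
      by_contra hji
      rw [← Finset.add_sum_erase _ _ hi, h4] at hsplit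
      have h5 : v j * v j ≤ ∑ l ∈ (rest i₀ v).erase i, v l * v l :=
        Finset.single_le_sum (f := fun l => v l * v l) (fun l _ => mul_self_nonneg _)
          (Finset.mem_erase.2 ⟨hji, hj⟩)
      have : 0 < v j * v j := mul_self_pos.2 (mem_rest.1 hj).2
      omega
    rw [dotProduct, ← Finset.add_sum_erase _ _ (Finset.mem_univ i₀), h0, hd0] at hdeg
    have hr : ∑ l ∈ Finset.univ.erase i₀, v l * d l = v i * d i := by
      rw [← Finset.sum_filter_of_ne (p := fun l => v l ≠ 0) (fun l _ hl h => hl (by simp [h]))]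
      exact (congrArg (fun s => ∑ l ∈ s, v l * d l) hsingle).trans (Finset.sum_singleton _ _)
    rw [hr] at hdeg
    rcases (show v i = 2 ∨ v i = -2 by omega) with h | h <;> rw [h] at hdeg <;> omega
  refine ⟨h0, fun i => ?_, ?_⟩
  · by_cases hi : i ∈ rest i₀ v
    · rcases hb i hi with h | h <;> omega
    · rcases eq_or_ne i i₀ with rfl | hne
      · omega
      · have : v i = 0 := by_contra fun h => hi (mem_rest.2 ⟨hne, h⟩)
        omega
  · rw [Finset.sum_congr rfl (fun i hi => show v i * v i = 1 by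
      rcases hb i hi with h | h <;> simp [h])] at hsplit
    simp at hsplit
    exact_mod_cast hsplit

/-- The conditions on the third vector. -/
structure MomentFive (i₀ : ι) (d : ι → ℤ) (p q : ι → ℚ) (K g₁ g₂ g₃ : ℚ) (V : ι → ℤ) : Prop where
  base : V i₀ = 1
  norm : V ⬝ᵥ V = 5
  deg : V ⬝ᵥ d = 0
  linP : ∑ i, (V i : ℚ) * d i * p i = 0
  linQ : ∑ i, (V i : ℚ) * d i * q i = 0
  quadPP : ∑ i, (V i : ℚ) * d i * (p i * p i) = K * g₁
  quadPQ : ∑ i, (V i : ℚ) * d i * (p i * q i) = K * g₂
  quadQQ : ∑ i, (V i : ℚ) * d i * (q i * q i) = K * g₃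

/-- The common part of two sign vectors with product `-1`, lengths three and four. -/
theorem IsSigns.common_opposite {v w : ι → ℤ} (hv : IsSigns i₀ v 3) (hw : IsSigns i₀ w 4)
    (hdot : v ⬝ᵥ w = -1) :
    ∃ a b, a ≠ b ∧ rest i₀ v ∩ rest i₀ w = {a, b} ∧ w a = -v a ∧ w b = -v b := by
  set C := rest i₀ v ∩ rest i₀ w with hC
  have hsum : ∑ i ∈ C, v i * w i = -2 := by
    have := dot_eq_add_common hv.base hw.base
    rw [← hC, hdot] at this
    linarith
  have hval : ∀ i ∈ C, (w i = v i ∧ v i * w i = 1) ∨ (w i = -v i ∧ v i * w i = -1) := by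
    intro i hi
    obtain ⟨h1, h2⟩ := Finset.mem_inter.1 hi
    rcases sq_eq_one_of_bound (mem_rest.1 h1).2 (hv.bound i).1 (hv.bound i).2 with a | a <;>
    rcases sq_eq_one_of_bound (mem_rest.1 h2).2 (hw.bound i).1 (hw.bound i).2 with b | b <;>
      simp [a, b]
  have hle : C.card ≤ 3 := hv.card ▸ Finset.card_le_card Finset.inter_subset_left
  rcases (show C.card = 0 ∨ C.card = 1 ∨ C.card = 2 ∨ C.card = 3 by omega) with h | h | h | h
  · simp [Finset.card_eq_zero.1 h] at hsum
  · obtain ⟨i, hi⟩ := Finset.card_eq_one.1 h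
    rw [hi, Finset.sum_singleton] at hsum
    rcases hval i (by simp [hi]) with h | h <;> omega
  · obtain ⟨i, j, hij, hC'⟩ := Finset.card_eq_two.1 h
    rw [hC', Finset.sum_pair hij] at hsum
    refine ⟨i, j, hij, hC', ?_⟩
    rcases hval i (by simp [hC']) with h | h <;> rcases hval j (by simp [hC']) with h' | h' <;>
      omega
  · obtain ⟨i, j, k, hij, hik, hjk, hC'⟩ := Finset.card_eq_three.1 h
    rw [hC', Finset.sum_insert (by simp [hij, hik]), Finset.sum_pair hjk] at hsum
    rcases hval i (by simp [hC']) with h | h <;> rcases hval j (by simp [hC']) with h' | h' <;>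
      rcases hval k (by simp [hC']) with h'' | h'' <;> omega

theorem sum_four {v : ι → ℤ} (h0 : v i₀ = 1) {a b i j : ι} (hr : rest i₀ v = {a, b, i, j})
    (hab : a ≠ b) (hai : a ≠ i) (haj : a ≠ j) (hbi : b ≠ i) (hbj : b ≠ j) (hij : i ≠ j) (f : ι → ℚ) :
    ∑ l, (v l : ℚ) * f l = f i₀ + ((v a : ℚ) * f a + (v b : ℚ) * f b + (v i : ℚ) * f i + (v j : ℚ) * f j) := by
  rw [sum_rest h0, hr, Finset.sum_insert (by simp [hab, hai, haj]),
    Finset.sum_insert (by simp [hbi, hbj]), Finset.sum_pair hij]
  ring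

theorem sum_three {v : ι → ℤ} (h0 : v i₀ = 1) {a b x : ι} (hr : rest i₀ v = {a, b, x})
    (hab : a ≠ b) (hax : a ≠ x) (hbx : b ≠ x) (f : ι → ℚ) :
    ∑ l, (v l : ℚ) * f l = f i₀ + ((v a : ℚ) * f a + (v b : ℚ) * f b + (v x : ℚ) * f x) := by
  rw [sum_rest h0, hr, Finset.sum_insert (by simp [hab, hax]), Finset.sum_pair hbx]
  ring

/-- The moments left after cancelling the two common entries of opposite sign. -/
theorem combined_moments {U g : ι → ℤ} (hd0 : d i₀ = 1) (hp0 : p i₀ = 0) (hq0 : q i₀ = 0)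
    (hU : MomentVec i₀ d p q K 1 1 2 U) (hg : MomentFive i₀ d p q K (-1/2) (1/2) (3/2) g)
    {a b x i j : ι} (hrU : rest i₀ U = {a, b, x}) (hrg : rest i₀ g = {a, b, i, j}) (hab : a ≠ b)
    (hax : a ≠ x) (hbx : b ≠ x) (hai : a ≠ i) (haj : a ≠ j) (hbi : b ≠ i) (hbj : b ≠ j) (hij : i ≠ j)
    (ha : g a = -U a) (hb : g b = -U b) :
    (2 : ℚ) + (U x : ℚ) * d x + (g i : ℚ) * d i + (g j : ℚ) * d j = 0 ∧
      (U x : ℚ) * d x * p x + (g i : ℚ) * d i * p i + (g j : ℚ) * d j * p j = 0 ∧
      (U x : ℚ) * d x * q x + (g i : ℚ) * d i * q i + (g j : ℚ) * d j * q j = 0 ∧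
      (U x : ℚ) * d x * (p x * p x) + (g i : ℚ) * d i * (p i * p i) +
          (g j : ℚ) * d j * (p j * p j) = K * (1/2) ∧
      (U x : ℚ) * d x * (p x * q x) + (g i : ℚ) * d i * (p i * q i) +
          (g j : ℚ) * d j * (p j * q j) = K * (3/2) ∧
      (U x : ℚ) * d x * (q x * q x) + (g i : ℚ) * d i * (q i * q i) +
          (g j : ℚ) * d j * (q j * q j) = K * (7/2) := by
  have hga : (g a : ℚ) = -(U a : ℚ) := by rw [ha]; push_cast; ring
  have hgb : (g b : ℚ) = -(U b : ℚ) := by rw [hb]; push_cast; ring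
  have hconv : ∀ (r : ι → ℚ) (m m' : ℚ), ∑ l, (U l : ℚ) * d l * r l = m →
      ∑ l, (g l : ℚ) * d l * r l = m' →
      2 * r i₀ + ((U x : ℚ) * d x * r x + (g i : ℚ) * d i * r i + (g j : ℚ) * d j * r j) = m + m' := by
    intro r m m' h1 h2
    simp only [mul_assoc] at h1 h2
    rw [sum_three hU.base hrU hab hax hbx, hd0] at h1
    rw [sum_four hg.base hrg hab hai haj hbi hbj hij, hd0, hga, hgb] at h2
    push_cast at h1 h2
    linear_combination h1 + h2
  have hdU : ∑ l, (U l : ℚ) * d l * (1 : ℚ) = 0 := by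
    have := hU.deg
    simp only [dotProduct] at this
    simp only [mul_one]
    exact_mod_cast this
  have hdg : ∑ l, (g l : ℚ) * d l * (1 : ℚ) = 0 := by
    have := hg.deg
    simp only [dotProduct] at this
    simp only [mul_one]
    exact_mod_cast this
  refine ⟨?_, ?_, ?_, ?_, ?_, ?_⟩
  · linear_combination hconv (fun _ => 1) 0 0 hdU hdg
  · have := hconv p 0 0 hU.linP hg.linP; rw [hp0] at this; linarith
  · have := hconv q 0 0 hU.linQ hg.linQ; rw [hq0] at this; linarith
  · have := hconv (fun l => p l * p l) _ _ hU.quadPP hg.quadPP; simp only [hp0] at this; linarith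
  · have := hconv (fun l => p l * q l) _ _ hU.quadPQ hg.quadPQ; simp only [hp0] at this; linarith
  · have := hconv (fun l => q l * q l) _ _ hU.quadQQ hg.quadQQ; simp only [hq0] at this; linarith

/-- A unit in the main case has weight between one and five and a square discriminant. -/
theorem unit_weight {A : ℤ} (hA : A ≠ 0) {x y : ℚ} (hK : K ≠ 0)
    (h1 : (A : ℚ) * (2 * x * x - 2 * x * y + y * y) = K * (1 + A)) (h2 : (2 * y - x) ^ 2 = 6 * K) :
    A = 2 ∨ A = 3 ∨ A = 5 := by
  have e : ((1 - 11 * A : ℚ) * x + (4 * A - 2) * y) ^ 2 = (30 * A - 6 * A ^ 2) * y ^ 2 := by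
    linear_combination (-(1 - 11 * (A : ℚ)) * 6) * h1 + (1 - 11 * (A : ℚ)) * (1 + A) * h2
  have hy : y ≠ 0 := by
    rintro rfl
    have hx : x ≠ 0 := by
      rintro rfl
      exact hK (by linarith)
    have hz : ((1 - 11 * A : ℤ) : ℚ) * x = 0 := by
      push_cast
      have : ((1 - 11 * (A : ℚ)) * x) ^ 2 = 0 := by linear_combination e
      exact sq_eq_zero_iff.1 this
    have := (mul_eq_zero.1 hz).resolve_right hx
    have : (1 - 11 * A : ℤ) = 0 := by exact_mod_cast this
    omega
  have hsq : IsSquare ((30 * A - 6 * A ^ 2 : ℤ) : ℚ) := by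
    refine ⟨((1 - 11 * A : ℚ) * x + (4 * A - 2) * y) / y, ?_⟩
    push_cast
    field_simp
    linear_combination -e
  have hnn : (0 : ℤ) ≤ 30 * A - 6 * A ^ 2 := by exact_mod_cast hsq.nonneg
  have : 0 ≤ A ∧ A ≤ 5 := by constructor <;> nlinarith
  rw [Rat.isSquare_intCast_iff] at hsq
  obtain ⟨h0, h5⟩ := this
  interval_cases A <;> first | omega | (norm_num at hsq <;> exact absurd hsq (by decide))

theorem nine_core (hd : ∀ i, 0 < d i) (hd0 : d i₀ = 1) (hp0 : p i₀ = 0) (hq0 : q i₀ = 0)
    (hK : K ≠ 0) (U W g : ι → ℤ) (hU : MomentVec i₀ d p q K 1 1 2 U)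
    (hW : MomentVec i₀ d p q K 0 1 1 W) (hg : MomentFive i₀ d p q K (-1/2) (1/2) (3/2) g)
    (hUW : U ⬝ᵥ W = 2) (hUg : U ⬝ᵥ g = -1) (hWg : W ⬝ᵥ g = 1) :
    ∃ i, i ≠ i₀ ∧ d i = 2 := by
  have sU := isSigns_of_norm_four hU.base hU.norm
  have sW := isSigns_of_norm_four hW.base hW.norm
  have sg := isSigns_of_norm_five hd0 hg.base hg.norm hg.deg
  obtain ⟨c, hcS, hcv⟩ := sU.common sW hd hU.deg hW.deg hUW
  obtain ⟨hcU, hcW⟩ := Finset.mem_inter.1 (show c ∈ rest i₀ U ∩ rest i₀ W by rw [hcS]; simp)
  have hcWU : W c = U c := by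
    rcases Int.mul_eq_one_iff_eq_one_or_neg_one.1 hcv with ⟨h1, h2⟩ | ⟨h1, h2⟩ <;> omega
  have pm : ∀ {v : ι → ℤ} {n : ℕ} {i : ι}, IsSigns i₀ v n → i ∈ rest i₀ v → v i = 1 ∨ v i = -1 :=
    fun hv hi => sq_eq_one_of_bound (mem_rest.1 hi).2 (hv.bound _).1 (hv.bound _).2
  have hne : ∀ {v : ι → ℤ} {i : ι}, i ∈ rest i₀ v → ((v i * d i : ℤ) : ℚ) ≠ 0 := fun hi =>
    Int.cast_ne_zero.2 (mul_ne_zero (mem_rest.1 hi).2 (hd _).ne')
  have two : ∀ {v : ι → ℤ} {n : ℕ} {i : ι}, IsSigns i₀ v n → i ∈ rest i₀ v →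
      (v i * d i = 2 ∨ v i * d i = -2) → ∃ i, i ≠ i₀ ∧ d i = 2 := fun {v _ i} hv hi h =>
    ⟨i, (mem_rest.1 hi).1, by
      have := hd i
      rcases pm hv hi with s | s <;> rw [s] at h <;> omega⟩
  -- at the common entry the slope is one or three
  obtain ⟨c', hc', hcc'⟩ : ∃ c' ∈ rest i₀ U, c ≠ c' := by
    obtain ⟨j, hj⟩ : ((rest i₀ U).erase c).Nonempty := by
      rw [← Finset.card_pos, Finset.card_erase_of_mem hcU, sU.card]; norm_num
    exact ⟨j, (Finset.mem_erase.1 hj).2, (Finset.mem_erase.1 hj).1.symm⟩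
  obtain ⟨c'', hc'', hcc''⟩ : ∃ c' ∈ rest i₀ W, c ≠ c' := by
    obtain ⟨j, hj⟩ : ((rest i₀ W).erase c).Nonempty := by
      rw [← Finset.card_pos, Finset.card_erase_of_mem hcW, sW.card]; norm_num
    exact ⟨j, (Finset.mem_erase.1 hj).2, (Finset.mem_erase.1 hj).1.symm⟩
  have u1 := (hU.pair hd hd0 hp0 hq0 hK hcU hc' hcc').1
  have w1 := (hW.pair hd hd0 hp0 hq0 hK hcW hc'' hcc'').1
  rw [hcWU] at w1
  simp only [adjQ] at u1 w1
  have hslope : q c = p c ∨ q c = 3 * p c := by
    rcases mul_eq_zero.1 (show (q c - p c) * (q c - 3 * p c) = 0 by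
      linear_combination u1 + w1) with h | h
    · left; linarith
    · right; linarith
  have hU1 : (U c * d c : ℤ) * (2 * (p c * p c) - 2 * (p c * q c) + q c * q c) =
      K * (1 + (U c * d c : ℤ)) := by
    have h := hne hcU
    push_cast at h ⊢
    obtain ⟨hu, hdc⟩ := mul_ne_zero_iff.1 h
    rw [show (2 * (p c * p c) - 2 * (p c * q c) + q c * q c) =
      2 * p c * p c - 1 * (p c * q c + q c * p c) + 1 * q c * q c by ring, u1]
    field_simp
    ring
  obtain ⟨a, b, hab, habS, hga, hgb⟩ := sU.common_opposite sg hUg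
  obtain ⟨haU, hag⟩ := Finset.mem_inter.1 (show a ∈ rest i₀ U ∩ rest i₀ g by rw [habS]; simp)
  obtain ⟨hbU, hbg⟩ := Finset.mem_inter.1 (show b ∈ rest i₀ U ∩ rest i₀ g by rw [habS]; simp)
  obtain ⟨x, hx⟩ : ∃ x, ((rest i₀ U).erase a).erase b = {x} := by
    rw [← Finset.card_eq_one, Finset.card_erase_of_mem (Finset.mem_erase.2 ⟨hab.symm, hbU⟩),
      Finset.card_erase_of_mem haU, sU.card]
  have hx' : x ∈ ((rest i₀ U).erase a).erase b := by rw [hx]; simp
  simp only [Finset.mem_erase] at hx'
  obtain ⟨hxb, hxa, hxU⟩ := hx'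
  have hrU : rest i₀ U = {a, b, x} := by
    rw [← hx, Finset.insert_erase (Finset.mem_erase.2 ⟨hab.symm, hbU⟩), Finset.insert_erase haU]
  obtain ⟨i, j, hij, hgij⟩ : ∃ i j, i ≠ j ∧ ((rest i₀ g).erase a).erase b = {i, j} := by
    rw [← Finset.card_eq_two, Finset.card_erase_of_mem (Finset.mem_erase.2 ⟨hab.symm, hbg⟩),
      Finset.card_erase_of_mem hag, sg.card]
  have hrg : rest i₀ g = {a, b, i, j} := by
    rw [← hgij, Finset.insert_erase (Finset.mem_erase.2 ⟨hab.symm, hbg⟩), Finset.insert_erase hag]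
  have hi' : i ∈ ((rest i₀ g).erase a).erase b := by rw [hgij]; simp
  have hj' : j ∈ ((rest i₀ g).erase a).erase b := by rw [hgij]; simp
  simp only [Finset.mem_erase] at hi' hj'
  have hgx : g x = 0 := by
    by_contra h
    have : x ∈ rest i₀ U ∩ rest i₀ g :=
      Finset.mem_inter.2 ⟨hxU, mem_rest.2 ⟨(mem_rest.1 hxU).1, h⟩⟩
    rw [habS] at this
    simp [hxa, hxb] at this
  -- the degree relation of the first vector
  have hdegU : 1 + U a * d a + U b * d b + U x * d x = 0 := by
    have h := hU.deg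
    rw [dotProduct] at h
    have h' : ((∑ l, U l * d l : ℤ) : ℚ) = 0 := by exact_mod_cast h
    push_cast at h'
    rw [sum_three hU.base hrU hab hxa.symm hxb.symm (fun l => (d l : ℚ)), hd0, Int.cast_one] at h'
    have h'' : ((1 + U a * d a + U b * d b + U x * d x : ℤ) : ℚ) = 0 := by push_cast; linarith
    exact_mod_cast h''
  by_cases hcx : c = x
  · -- the common entry is outside the third vector
    subst hcx
    by_cases hC2 : U c * d c = -2
    · exact two sU hcU (Or.inr hC2)
    obtain ⟨e0, e1, e2, q1, q2, q3⟩ := combined_moments hd0 hp0 hq0 hU hg hrU hrg hab hxa.symm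
      hxb.symm hi'.2.1.symm hj'.2.1.symm hi'.1.symm hj'.1.symm hij hga hgb
    set C : ℚ := (U c : ℚ) * d c with hC
    set I : ℚ := (g i : ℚ) * d i with hI
    set J : ℚ := (g j : ℚ) * d j with hJ
    have s1 : (-2 - C) * (K * (1/2) - C * (p c * p c)) - C ^ 2 * p c ^ 2 =
        I * J * (p i - p j) ^ 2 := by
      rw [show K * (1/2) - C * (p c * p c) = I * (p i * p i) + J * (p j * p j) by linarith,
        show -2 - C = I + J by linarith,
        show C ^ 2 * p c ^ 2 = (-(C * p c)) ^ 2 by ring,
        show -(C * p c) = I * p i + J * p j by linarith]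
      ring
    have s2 : (-2 - C) * (K * (3/2) - C * (p c * q c)) - C ^ 2 * (p c * q c) =
        I * J * (p i - p j) * (q i - q j) := by
      rw [show K * (3/2) - C * (p c * q c) = I * (p i * q i) + J * (p j * q j) by linarith,
        show -2 - C = I + J by linarith,
        show C ^ 2 * (p c * q c) = -(C * p c) * -(C * q c) by ring,
        show -(C * p c) = I * p i + J * p j by linarith,
        show -(C * q c) = I * q i + J * q j by linarith]
      ring
    have s3 : (-2 - C) * (K * (7/2) - C * (q c * q c)) - C ^ 2 * q c ^ 2 =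
        I * J * (q i - q j) ^ 2 := by
      rw [show K * (7/2) - C * (q c * q c) = I * (q i * q i) + J * (q j * q j) by linarith,
        show -2 - C = I + J by linarith,
        show C ^ 2 * q c ^ 2 = (-(C * q c)) ^ 2 by ring,
        show -(C * q c) = I * q i + J * q j by linarith]
      ring
    have s0 : ((-2 - C) * (K * (1/2) - C * (p c * p c)) - C ^ 2 * p c ^ 2) *
        ((-2 - C) * (K * (7/2) - C * (q c * q c)) - C ^ 2 * q c ^ 2) -
        ((-2 - C) * (K * (3/2) - C * (p c * q c)) - C ^ 2 * (p c * q c)) ^ 2 = 0 := by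
      rw [s1, s2, s3]; ring
    have hS : (-2 - C) * K ≠ 0 := by
      refine mul_ne_zero (fun h => hC2 ?_) hK
      have : ((U c * d c : ℤ) : ℚ) = -2 := by push_cast; rw [← hC]; linarith
      exact_mod_cast this
    have key : (-2 - C) * (-1/2) * K +
        2 * C * (7/2 * (p c * p c) - 3 * (p c * q c) + 1/2 * (q c * q c)) = 0 := by
      apply mul_left_cancel₀ hS
      linear_combination s0
    push_cast at hU1
    rw [← hC] at hU1
    rcases hslope with hs | hs
    · rw [hs] at key hU1
      have : K * (5 * C + 6) = 0 := by linear_combination 2 * key - 4 * hU1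
      have h := (mul_eq_zero.1 this).resolve_left hK
      have : ((5 * (U c * d c) + 6 : ℤ) : ℚ) = 0 := by push_cast; rw [← hC]; exact h
      have : 5 * (U c * d c) + 6 = 0 := by exact_mod_cast this
      omega
    · rw [hs] at key hU1
      have hC6 : C = -6 := by
        have : K * (C + 6) = 0 := by linear_combination 10 * key + 4 * hU1
        have h := (mul_eq_zero.1 this).resolve_left hK
        linarith
      have hC6' : U c * d c = -6 := by
        have : ((U c * d c : ℤ) : ℚ) = -6 := by push_cast; rw [← hC]; exact hC6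
        exact_mod_cast this
      have hpc : 6 * (p c) ^ 2 = K := by rw [hC6] at hU1; linear_combination (-1/5 : ℚ) * hU1
      have unit : ∀ {l : ι}, l ∈ rest i₀ U → c ≠ l →
          U l * d l = 2 ∨ U l * d l = 3 ∨ U l * d l = 5 := by
        intro l hl hcl
        have e1 := (hU.pair hd hd0 hp0 hq0 hK hcU hl hcl).2
        have e2 := (hU.pair hd hd0 hp0 hq0 hK hl hcU hcl.symm).1
        simp only [adjQ, hs] at e1
        simp only [adjQ] at e2
        have hn : (U l : ℚ) * d l ≠ 0 := by exact_mod_cast hne hl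
        obtain ⟨hu, hdl⟩ := mul_ne_zero_iff.1 hn
        refine unit_weight (mul_ne_zero (mem_rest.1 hl).2 (hd l).ne') hK (x := p l) (y := q l) ?_ ?_
        · push_cast
          rw [show 2 * p l * p l - 2 * p l * q l + q l * q l =
            2 * p l * p l - 1 * (p l * q l + q l * p l) + 1 * q l * q l by ring, e2]
          field_simp
          ring
        · have hpc0 : p c ^ 2 ≠ 0 := fun h => hK (by rw [← hpc, h, mul_zero])
          apply mul_left_cancel₀ hpc0
          linear_combination (p c * (2 * q l - p l) + K) * e1 - K * hpc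
      have uA := unit haU hxa
      have uB := unit hbU hxb
      rcases uA with h | h | h
      · exact two sU haU (Or.inl h)
      · exact two sU hbU (Or.inl (by omega))
      · exfalso; omega
  · -- the common entry lies in the third vector: impossible
    exfalso
    obtain ⟨a, b, hab, hga, hgb, haU, hbU, hag, hbg, hrU, hrg, hia, hib, hja, hjb, hxa, hxb, rfl⟩ :
        ∃ a' b', a' ≠ b' ∧ g a' = -U a' ∧ g b' = -U b' ∧ a' ∈ rest i₀ U ∧ b' ∈ rest i₀ U ∧
          a' ∈ rest i₀ g ∧ b' ∈ rest i₀ g ∧ rest i₀ U = {a', b', x} ∧ rest i₀ g = {a', b', i, j} ∧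
          i ≠ a' ∧ i ≠ b' ∧ j ≠ a' ∧ j ≠ b' ∧ x ≠ a' ∧ x ≠ b' ∧ c = a' := by
      have : c = a ∨ c = b := by
        have h := hcU
        rw [hrU] at h
        simpa [hcx] using h
      rcases this with h | h
      · exact ⟨a, b, hab, hga, hgb, haU, hbU, hag, hbg, hrU, hrg, hi'.2.1, hi'.1, hj'.2.1, hj'.1,
          hxa, hxb, h⟩
      · exact ⟨b, a, hab.symm, hgb, hga, hbU, haU, hbg, hag,
          by rw [hrU, Finset.insert_comm], by rw [hrg, Finset.insert_comm], hi'.1, hi'.2.1, hj'.1,
          hj'.2.1, hxb, hxa, h⟩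
    have hA0 : ((U c * d c : ℤ) : ℚ) ≠ 0 := hne hcU
    set A : ℤ := U c * d c with hA
    set X : ℚ := (U x : ℚ) * d x with hX
    have hX0 : X ≠ 0 := by rw [hX]; exact_mod_cast hne hxU
    have e1 := (hU.pair hd hd0 hp0 hq0 hK hcU hxU hxa.symm).2
    have e2 := (hU.pair hd hd0 hp0 hq0 hK hxU hcU hxa).1
    simp only [adjQ] at e1 e2
    rw [← hX] at e2
    have x1 : X * (2 * (p x * p x) - 2 * (p x * q x) + q x * q x) = K * (1 + X) := by
      rw [show (2 * (p x * p x) - 2 * (p x * q x) + q x * q x) =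
        2 * p x * p x - 1 * (p x * q x + q x * p x) + 1 * q x * q x by ring, e2]
      field_simp
      ring
    -- the entries of the combination
    have tri : ∀ {i j : ι}, i ≠ j → i ≠ c → i ≠ b → j ≠ c → j ≠ b → rest i₀ g = {c, b, i, j} →
        X * (-7 * (p x * p x) + 6 * (p x * q x) - q x * q x) = K * (1 + X / 2) ∧
          (g i : ℚ) * d i * (-7 * (p i * p i) + 6 * (p i * q i) - q i * q i) =
            K * (1 + (g i : ℚ) * d i / 2) ∧
          -7 * (p x * p i) + 3 * (p x * q i + q x * p i) - q x * q i = K / 2 := by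
      intro i j hij hic hib hjc hjb hrg
      obtain ⟨e0, l1, l2, q1, q2, q3⟩ := combined_moments hd0 hp0 hq0 hU hg hrU hrg hab hxa.symm
        hxb.symm hic.symm hjc.symm hib.symm hjb.symm hij hga hgb
      rw [← hX] at e0 l1 l2 q1 q2 q3
      have hgi : i ∈ rest i₀ g := by rw [hrg]; simp
      have hgj : j ∈ rest i₀ g := by rw [hrg]; simp
      have hI : (g i : ℚ) * d i ≠ 0 := by exact_mod_cast hne hgi
      have hJ : (g j : ℚ) * d j ≠ 0 := by exact_mod_cast hne hgj
      obtain ⟨r1, r3⟩ := three_points two_ne_zero hX0 hJ e0 l1 l2 q1 q2 q3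
      obtain ⟨r2, -⟩ := three_points two_ne_zero hI hJ
        (show 2 + (g i : ℚ) * d i + X + (g j : ℚ) * d j = 0 by linarith)
        (show (g i : ℚ) * d i * p i + X * p x + (g j : ℚ) * d j * p j = 0 by linarith)
        (show (g i : ℚ) * d i * q i + X * q x + (g j : ℚ) * d j * q j = 0 by linarith)
        (show (g i : ℚ) * d i * (p i * p i) + X * (p x * p x) + (g j : ℚ) * d j * (p j * p j) =
          K * (1/2) by linarith)
        (show (g i : ℚ) * d i * (p i * q i) + X * (p x * q x) + (g j : ℚ) * d j * (p j * q j) =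
          K * (3/2) by linarith)
        (show (g i : ℚ) * d i * (q i * q i) + X * (q x * q x) + (g j : ℚ) * d j * (q j * q j) =
          K * (7/2) by linarith)
      simp only [adjQ] at r1 r2 r3
      have hXi : X * (1 / X) = 1 := mul_one_div_cancel hX0
      have hIi : (g i : ℚ) * d i * (1 / ((g i : ℚ) * d i)) = 1 := mul_one_div_cancel hI
      refine ⟨mul_left_cancel₀ hK ?_, mul_left_cancel₀ hK ?_, mul_left_cancel₀ hK ?_⟩
      · linear_combination (-2 * X) * r1 + K ^ 2 * hXi
      · linear_combination (-2 * ((g i : ℚ) * d i)) * r2 + K ^ 2 * hIi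
      · linear_combination -2 * r3
    have x2 := (tri hij hia hib hja hjb hrg).1
    have x3 : 9 * (p x * p x) - 8 * (p x * q x) + 2 * (q x * q x) = K / 2 := by
      apply mul_left_cancel₀ hX0
      linear_combination x1 - x2
    rcases hslope with hs | hs
    · -- slope one
      rw [hs] at hU1 e1
      have hK2 : K ^ 2 * A = K * (1 + A) * p x ^ 2 := by
        linear_combination (p x ^ 2) * hU1 - (A : ℚ) * (p c * p x + K) * e1
      have hKA : K * A = (1 + A) * p x ^ 2 := mul_left_cancel₀ hK (by linear_combination hK2)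
      have hu : p x ≠ 0 := fun h => hA0 (by
        rw [h] at hKA
        exact (mul_eq_zero.1 (show K * (A : ℚ) = 0 by linear_combination hKA)).resolve_left hK)
      have key : 4 * (A : ℚ) * (2 * p x - q x) ^ 2 = (1 - A) * p x ^ 2 := by
        linear_combination 2 * (A : ℚ) * x3 + hKA
      have hpos : 0 < p x ^ 2 := by positivity
      have hA1 : A = 1 := by
        rcases lt_trichotomy A 1 with h | h | h
        · exfalso
          have hAneg : A < 0 := by
            have : A ≠ 0 := fun h0 => hA0 (by rw [h0, Int.cast_zero])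
            omega
          have : (A : ℚ) < 0 := by exact_mod_cast hAneg
          nlinarith [sq_nonneg (2 * p x - q x)]
        · exact h
        · exfalso
          have : (1 : ℚ) < A := by exact_mod_cast h
          nlinarith [sq_nonneg (2 * p x - q x)]
      rw [hA1, Int.cast_one] at key hKA
      have hv : q x = 2 * p x := by
        have : (2 * p x - q x) ^ 2 = 0 := by linear_combination key / 4
        linarith [sq_eq_zero_iff.1 this]
      rw [hv] at x1
      have : p x ^ 2 = 0 := by linear_combination (-1/2 : ℚ) * x1 + (-(1 + X) / 2) * hKA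
      exact hu (sq_eq_zero_iff.1 this)
    · -- slope three: a fifth entry is needed
      rw [hs] at hU1 e1
      obtain ⟨e, j', he, hej, hec, heb, hj'c, hj'b, hrg', hWe⟩ :
          ∃ e j', e ∈ rest i₀ g ∧ e ≠ j' ∧ e ≠ c ∧ e ≠ b ∧ j' ≠ c ∧ j' ≠ b ∧
            rest i₀ g = {c, b, e, j'} ∧ W e = g e := by
        have hsum : ∑ l ∈ rest i₀ g ∩ rest i₀ W, g l * W l = 0 := by
          have := dot_eq_add_common hg.base hW.base
          rw [dotProduct_comm, hWg] at this
          linarith
        have hWb : W b = 0 := by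
          by_contra h
          have : b ∈ rest i₀ U ∩ rest i₀ W :=
            Finset.mem_inter.2 ⟨hbU, mem_rest.2 ⟨(mem_rest.1 hbU).1, h⟩⟩
          rw [hcS] at this
          simp [hab.symm] at this
        have hsum' : g c * W c + g i * W i + g j * W j = 0 := by
          rw [Finset.sum_subset (Finset.inter_subset_left (s₂ := rest i₀ W))
            (fun l hl hl' => by
              have : W l = 0 := by_contra fun h => hl' (Finset.mem_inter.2 ⟨hl, mem_rest.2 ⟨(mem_rest.1 hl).1, h⟩⟩)
              rw [this, mul_zero]), hrg, Finset.sum_insert (by simp [hab, hia.symm, hja.symm]),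
            Finset.sum_insert (by simp [hib.symm, hjb.symm]), Finset.sum_pair hij, hWb] at hsum
          linarith
        have hgc : g c * W c = -1 := by
          rw [hga, hcWU]
          rcases pm sU hcU with s | s <;> rw [s] <;> norm_num
        have hwi : i ∈ rest i₀ g := by rw [hrg]; simp
        have hwj : j ∈ rest i₀ g := by rw [hrg]; simp
        by_cases hi1 : W i = g i
        · exact ⟨i, j, hwi, hij, hia, hib, hja, hjb, hrg, hi1⟩
        · refine ⟨j, i, hwj, hij.symm, hja, hjb, hia, hib, by rw [hrg, Finset.pair_comm i j], ?_⟩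
          have := (sW.bound i); have := (sW.bound j)
          rcases pm sg hwi with si | si <;> rcases pm sg hwj with sj | sj <;>
            simp only [si, sj] at hsum' hi1 ⊢ <;> omega
      obtain ⟨-, t2, t3⟩ := tri hej hec heb hj'c hj'b hrg'
      have heW : e ∈ rest i₀ W :=
        mem_rest.2 ⟨(mem_rest.1 he).1, by rw [hWe]; exact (mem_rest.1 he).2⟩
      have f1 := (hW.pair hd hd0 hp0 hq0 hK hcW heW hec.symm).2
      have f2 := (hW.pair hd hd0 hp0 hq0 hK heW hcW hec).1
      rw [hWe] at f2
      simp only [adjQ] at f1 f2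
      rw [hs] at f1
      set E : ℚ := (g e : ℚ) * d e with hE
      have hE0 : E ≠ 0 := by rw [hE]; exact_mod_cast hne he
      have e3 : 2 * (6 * (p e * p e) - 4 * (p e * q e) + q e * q e) = K := by
        apply mul_left_cancel₀ hE0
        field_simp at f2
        linear_combination -2 * t2 - 2 * f2
      -- the common value
      set R := 2 * q x - p x with hR
      have hxK : p c * R = K := by linear_combination e1
      have heK : p c * (2 * p e + q e) = K := by linear_combination -f1
      have hpc : p c ≠ 0 := fun h => hK (by rw [← hxK, h, zero_mul])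
      have hR0 : R ≠ 0 := fun h => hK (by rw [← hxK, h, mul_zero])
      have hqe : q e = R - 2 * p e :=
        mul_left_cancel₀ hpc (by linear_combination heK - hxK)
      have hqx : q x = (R + p x) / 2 := by rw [hR]; ring
      have hA2 : 5 * K * A = (1 + A) * R ^ 2 := by
        apply mul_left_cancel₀ hK
        linear_combination (R ^ 2) * hU1 - 5 * (A : ℚ) * (p c * R + K) * hxK
      rw [hqx] at x1 x3 t3
      rw [hqe] at e3 t3
      have eE : 36 * (p e) ^ 2 - 16 * (p e) * R + 2 * R ^ 2 = K := by linear_combination e3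
      have eX : 11 * (p x) ^ 2 - 6 * (p x) * R + R ^ 2 = K := by linear_combination 2 * x3
      have eC : -21 * (p x * p e) + 5 * (p x * R) + 5 * (p e * R) - R ^ 2 = K := by
        linear_combination 2 * t3
      have hsq : 5 * (A : ℚ) * (18 * p e - 4 * R) ^ 2 = (9 - A) * R ^ 2 := by
        linear_combination 45 * (A : ℚ) * eE + 9 * hA2
      have hR2 : 0 < R ^ 2 := by positivity
      have hA9 : 1 ≤ A ∧ A ≤ 9 := by
        have hAne : A ≠ 0 := fun h0 => hA0 (by rw [h0, Int.cast_zero])
        constructor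
        · by_contra h
          have : (A : ℚ) < 0 := by exact_mod_cast (show A < 0 by omega)
          nlinarith [sq_nonneg (18 * p e - 4 * R)]
        · by_contra h
          have : (9 : ℚ) < A := by exact_mod_cast (show (9 : ℤ) < A by omega)
          nlinarith [sq_nonneg (18 * p e - 4 * R)]
      have hsq' : IsSquare ((5 * A * (9 - A) : ℤ) : ℚ) := ⟨5 * A * (18 * p e - 4 * R) / R, by
        push_cast
        rw [div_mul_div_comm, eq_div_iff (mul_ne_zero hR0 hR0)]
        linear_combination (-5 * (A : ℚ)) * hsq⟩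
      rw [Rat.isSquare_intCast_iff] at hsq'
      have h459 : A = 4 ∨ A = 5 ∨ A = 9 := by
        obtain ⟨h1, h9⟩ := hA9
        interval_cases A <;> first | omega | (norm_num at hsq' <;> exact absurd hsq' (by decide))
      rcases h459 with h | h | h <;> rw [h] at hA2 hsq <;> push_cast at hA2 hsq
      · have hKv : K = R ^ 2 / 4 := by linarith
        rcases mul_eq_zero.1 (show (18 * p e - 4 * R - R / 2) * (18 * p e - 4 * R + R / 2) = 0 by
          linear_combination hsq / 20) with h' | h'
        · have hpe : p e = R / 4 := by linarith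
          rw [hpe, hKv] at eC
          have hpx : p x = 0 := mul_left_cancel₀ hR0 (by linear_combination (-4 : ℚ) * eC)
          rw [hpx, hKv] at eX
          linarith
        · have hpe : p e = 7 * R / 36 := by linarith
          rw [hpe, hKv] at eC
          have hpx : p x = R * (10/33) := mul_left_cancel₀ hR0 (by linear_combination (12/11 : ℚ) * eC)
          rw [hpx, hKv] at eX
          nlinarith [hR2]
      · have hKv : K = 6 * R ^ 2 / 25 := by linarith
        rcases mul_eq_zero.1 (show (18 * p e - 4 * R - 2 * R / 5) * (18 * p e - 4 * R + 2 * R / 5) = 0 by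
          linear_combination hsq / 25) with h' | h'
        · have hpe : p e = 11 * R / 45 := by linarith
          rw [hpe, hKv] at eC
          have hpx : p x = R * (-4/30) * (1 : ℚ) := mul_left_cancel₀ hR0 (by linear_combination (-15/2 : ℚ) * eC)
          rw [hpx, hKv] at eX
          nlinarith [hR2]
        · have hpe : p e = R / 5 := by linarith
          rw [hpe, hKv] at eC
          have hpx : p x = R * (3/10) := mul_left_cancel₀ hR0 (by linear_combination (5/4 : ℚ) * eC)
          rw [hpx, hKv] at eX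
          nlinarith [hR2]
      · have hKv : K = 2 * R ^ 2 / 9 := by linarith
        have hpe : p e = 2 * R / 9 := by
          have : (18 * p e - 4 * R) ^ 2 = 0 := by linear_combination hsq / 45
          linarith [sq_eq_zero_iff.1 this]
        rw [hpe, hKv] at eC
        have hpx : p x = R / 3 := mul_left_cancel₀ hR0 (by linear_combination (3 : ℚ) * eC)
        rw [hpx, hKv] at x1
        exact hK (by rw [hKv]; linear_combination -x1)

end Cfsg.Agent.Exceptional
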