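import Mathlib

/-! Integer vectors with one fixed entry `1` and small norm. -/

set_option autoImplicit false

namespace Cfsg.Agent.Exceptional

variable {ι : Type*} [Fintype ι] [DecidableEq ι]

/-- The support outside `i₀`. -/
def rest (i₀ : ι) (v : ι → ℤ) : Finset ι := (Finset.univ.erase i₀).filter fun i => v i ≠ 0

omit [Fintype ι] in
theorem sq_eq_one_of_bound {z : ℤ} (h0 : z ≠ 0) (hlo : -1 ≤ z) (hhi : z ≤ 1) : z = 1 ∨ z = -1 := by
  omega

theorem mem_rest {i₀ i : ι} {v : ι → ℤ} : i ∈ rest i₀ v ↔ i ≠ i₀ ∧ v i ≠ 0 := by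
  simp [rest]

/-- `v` has entry `1` at `i₀` and `n` further entries `±1`. -/
structure IsSigns (i₀ : ι) (v : ι → ℤ) (n : ℕ) : Prop where
  base : v i₀ = 1
  bound : ∀ i, -1 ≤ v i ∧ v i ≤ 1
  card : (rest i₀ v).card = n

theorem isSigns_of_norm_four {i₀ : ι} {v : ι → ℤ} (h0 : v i₀ = 1) (hn : v ⬝ᵥ v = 4) :
    IsSigns i₀ v 3 := by
  have hsplit : ∑ i ∈ rest i₀ v, v i * v i = 3 := by
    have h : ∑ i ∈ Finset.univ.erase i₀, v i * v i = 3 := by
      have := Finset.add_sum_erase Finset.univ (fun i => v i * v i) (Finset.mem_univ i₀)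
      simp only [h0, mul_one] at this
      rw [dotProduct] at hn
      linarith
    rw [rest, Finset.sum_filter_of_ne (p := fun i => v i ≠ 0) (fun i _ hi h => hi (by rw [h, mul_zero]))]
    exact h
  have hb : ∀ i, -1 ≤ v i ∧ v i ≤ 1 := by
    intro i
    rcases eq_or_ne i i₀ with rfl | hi
    · omega
    rcases eq_or_ne (v i) 0 with hv | hv
    · omega
    have : v i * v i ≤ 3 := hsplit ▸ Finset.single_le_sum
      (f := fun j => v j * v j) (fun j _ => mul_self_nonneg _) (mem_rest.2 ⟨hi, hv⟩)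
    constructor <;> nlinarith
  refine ⟨h0, hb, ?_⟩
  have h1 : ∀ i ∈ rest i₀ v, v i * v i = 1 := fun i hi => by
    rcases sq_eq_one_of_bound (mem_rest.1 hi).2 (hb i).1 (hb i).2 with h | h <;> simp [h]
  rw [Finset.sum_congr rfl h1] at hsplit
  simp at hsplit
  exact_mod_cast hsplit

theorem sum_rest {i₀ : ι} {v : ι → ℤ} (h0 : v i₀ = 1) (f : ι → ℚ) :
    ∑ i, (v i : ℚ) * f i = f i₀ + ∑ i ∈ rest i₀ v, (v i : ℚ) * f i := by
  rw [← Finset.add_sum_erase _ _ (Finset.mem_univ i₀), h0, Int.cast_one, one_mul, rest,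
    Finset.sum_filter_of_ne (p := fun i => v i ≠ 0) (fun i _ hi h => hi (by simp [h]))]

theorem dot_eq_add_common {i₀ : ι} {v w : ι → ℤ} (hv : v i₀ = 1) (hw : w i₀ = 1) :
    v ⬝ᵥ w = 1 + ∑ i ∈ rest i₀ v ∩ rest i₀ w, v i * w i := by
  rw [dotProduct, ← Finset.add_sum_erase _ _ (Finset.mem_univ i₀), hv, hw, mul_one]
  congr 1
  refine (Finset.sum_subset (fun i hi => ?_) fun i hi hni => ?_).symm
  · exact Finset.mem_erase.2 ⟨(mem_rest.1 (Finset.mem_inter.1 hi).1).1, Finset.mem_univ i⟩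
  · have hi' := (Finset.mem_erase.1 hi).1
    by_contra hne
    obtain ⟨h1, h2⟩ := mul_ne_zero_iff.1 hne
    exact hni (Finset.mem_inter.2 ⟨mem_rest.2 ⟨hi', h1⟩, mem_rest.2 ⟨hi', h2⟩⟩)

/-- Two such vectors with product two and zero degree share a single further entry. -/
theorem IsSigns.common {i₀ : ι} {v w : ι → ℤ} {d : ι → ℤ} (hv : IsSigns i₀ v 3) (hw : IsSigns i₀ w 3)
    (hd : ∀ i, 0 < d i) (hvd : v ⬝ᵥ d = 0) (hwd : w ⬝ᵥ d = 0) (hdot : v ⬝ᵥ w = 2) :
    ∃ i, rest i₀ v ∩ rest i₀ w = {i} ∧ v i * w i = 1 := by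
  set C := rest i₀ v ∩ rest i₀ w with hC
  have hsum : ∑ i ∈ C, v i * w i = 1 := by
    have := dot_eq_add_common hv.base hw.base
    rw [← hC, hdot] at this
    linarith
  have hval : ∀ i ∈ C, v i * w i = 1 ∨ v i * w i = -1 := by
    intro i hi
    obtain ⟨h1, h2⟩ := Finset.mem_inter.1 hi
    rcases sq_eq_one_of_bound (mem_rest.1 h1).2 (hv.bound i).1 (hv.bound i).2 with a | a <;>
    rcases sq_eq_one_of_bound (mem_rest.1 h2).2 (hw.bound i).1 (hw.bound i).2 with b | b <;>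
      simp [a, b]
  have hle : C.card ≤ 3 := hv.card ▸ Finset.card_le_card Finset.inter_subset_left
  rcases (show C.card = 0 ∨ C.card = 1 ∨ C.card = 2 ∨ C.card = 3 by omega) with h | h | h | h
  · simp [Finset.card_eq_zero.1 h] at hsum
  · obtain ⟨i, hi⟩ := Finset.card_eq_one.1 h
    exact ⟨i, hi, by simpa [hi] using hsum⟩
  · obtain ⟨i, j, hij, hC'⟩ := Finset.card_eq_two.1 h
    have hi := hval i (by simp [hC'])
    have hj := hval j (by simp [hC'])
    rw [hC', Finset.sum_pair hij] at hsum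
    omega
  · exfalso
    have hCv : C = rest i₀ v :=
      Finset.eq_of_subset_of_card_le Finset.inter_subset_left (by rw [hv.card, h])
    have hCw : C = rest i₀ w :=
      Finset.eq_of_subset_of_card_le Finset.inter_subset_right (by rw [hw.card, h])
    obtain ⟨i, j, k, hij, hik, hjk, hC'⟩ := Finset.card_eq_three.1 h
    have key : ∀ u : ι → ℤ, u i₀ = 1 → C = rest i₀ u →
        u ⬝ᵥ d = d i₀ + u i * d i + u j * d j + u k * d k := by
      intro u hu hCu
      rw [dotProduct, ← Finset.add_sum_erase _ _ (Finset.mem_univ i₀), hu, one_mul]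
      have : ∑ l ∈ Finset.univ.erase i₀, u l * d l = ∑ l ∈ C, u l * d l := by
        rw [hCu, rest, Finset.sum_filter_of_ne (p := fun l => u l ≠ 0) (fun l _ hl h => hl (by simp [h]))]
      rw [this, hC', Finset.sum_insert (by simp [hij, hik]), Finset.sum_pair hjk]
      ring
    rw [key v hv.base hCv] at hvd
    rw [key w hw.base hCw] at hwd
    rw [hC', Finset.sum_insert (by simp [hij, hik]), Finset.sum_pair hjk] at hsum
    have hvals : ∀ l ∈ C, (v l = 1 ∨ v l = -1) ∧ (w l = 1 ∨ w l = -1) := fun l hl =>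
      ⟨sq_eq_one_of_bound (mem_rest.1 (hCv ▸ hl)).2 (hv.bound l).1 (hv.bound l).2,
        sq_eq_one_of_bound (mem_rest.1 (hCw ▸ hl)).2 (hw.bound l).1 (hw.bound l).2⟩
    obtain ⟨a1, a2⟩ := hvals i (by simp [hC'])
    obtain ⟨b1, b2⟩ := hvals j (by simp [hC'])
    obtain ⟨c1, c2⟩ := hvals k (by simp [hC'])
    have := hd i
    have := hd j
    have := hd k
    rcases a1 with e1 | e1 <;> rcases a2 with e2 | e2 <;> rcases b1 with e3 | e3 <;>
      rcases b2 with e4 | e4 <;> rcases c1 with e5 | e5 <;> rcases c2 with e6 | e6 <;>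
      simp only [e1, e2, e3, e4, e5, e6] at hvd hwd hsum <;> omega

end Cfsg.Agent.Exceptional
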