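import Cfsg.Agent.Lib.Exceptional.NineModel
import Cfsg.Agent.Lib.Exceptional.NineCore
import Cfsg.Agent.Lib.Exceptional.ClassPairs
import Cfsg.Agent.Lib.Char.Descend
import Cfsg.Agent.Lib.Char.Linear
import Cfsg.Agent.Lib.Coprime.Generation
import Cfsg.Agent.S3716
import Cfsg.Agent.S3701
import Cfsg.Prelude.Def_TwoFusion

/-!
# A subgroup `3³ : S₄` with small centralisers of the translations is the whole group
-/

set_option autoImplicit false

namespace Cfsg.Agent.Exceptional.Nine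

open Cfsg

/-! ## Normal subgroups of the model -/

theorem inS_spec : ∀ g : W, inS g = true →
    g * g ≠ 1 ∧ ((isT (g * g) = true ∧ g * g ≠ 1) ∨ (isT (g * g * g) = true ∧ g * g * g ≠ 1) ∨
      (isT (g * g * (g * g)) = true ∧ g * g * (g * g) ≠ 1)) := by
  decide +kernel

theorem exists_pow_mem_T {g : W} (h : inS g = true) : ∃ k : ℕ, g ^ k ∈ T ∧ g ^ k ≠ 1 := by
  obtain ⟨-, h | h | h⟩ := inS_spec g h
  · exact ⟨2, by rw [pow_two]; exact ⟨mem_T_iff_isT.2 h.1, h.2⟩⟩
  · exact ⟨3, by rw [pow_three, ← mul_assoc]; exact ⟨mem_T_iff_isT.2 h.1, h.2⟩⟩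
  · refine ⟨4, ?_⟩
    rw [show g ^ 4 = g * g * (g * g) by simp [pow_succ, mul_assoc]]
    exact ⟨mem_T_iff_isT.2 h.1, h.2⟩

/-- The powers of order three of an element of `inS` are translations. -/
theorem pow_mem_T_of_inS {g : W} (h : inS g = true) {k : ℕ} (h3 : (g ^ k) ^ 3 = 1) : g ^ k ∈ T := by
  obtain ⟨l, hl, hl1⟩ := exists_pow_mem_T h
  have key : ∀ a b c : ZMod 3, tr a b c * (tr a b c * tr a b c) = 1 := by decide +kernel
  have hl3 : (g ^ l) ^ 3 = 1 := by rw [pow_three, eq_tr_of_mem_T hl, key]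
  rw [← pow_mul] at h3 hl3
  have hk := orderOf_dvd_of_pow_eq_one h3
  have hl' := orderOf_dvd_of_pow_eq_one hl3
  have hnl : ¬ orderOf g ∣ l := fun hd => hl1 (orderOf_dvd_iff_pow_eq_one.1 hd)
  have h3n : 3 ∣ orderOf g := by
    by_contra hd
    exact hnl (((Nat.prime_three.coprime_iff_not_dvd.2 hd).symm).dvd_of_dvd_mul_right hl')
  obtain ⟨m, hm⟩ := h3n
  rw [hm] at hk hl' hnl
  obtain ⟨i, rfl⟩ : m ∣ k := Nat.dvd_of_mul_dvd_mul_left (k := 3) (by norm_num) (by rwa [mul_comm k 3] at hk)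
  obtain ⟨j, rfl⟩ : m ∣ l := Nat.dvd_of_mul_dvd_mul_left (k := 3) (by norm_num) (by rwa [mul_comm l 3] at hl')
  have hj : ¬ 3 ∣ j := fun hd => hnl (by rw [mul_comm 3 m]; exact mul_dvd_mul_left m hd)
  have hw : g ^ m = (g ^ (m * j)) ^ j := by
    rw [← pow_mul, mul_assoc, pow_mul g m, ← pow_mod_orderOf (g ^ m) (j * j)]
    have hjj : (j * j) % 3 = 1 := by
      rcases (show j % 3 = 1 ∨ j % 3 = 2 by omega) with h' | h' <;> rw [Nat.mul_mod, h']
    have hord : orderOf (g ^ m) ∣ 3 :=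
      orderOf_dvd_of_pow_eq_one (by rw [← pow_mul, mul_comm, ← hm, pow_orderOf_eq_one])
    rcases (Nat.dvd_prime Nat.prime_three).1 hord with h' | h'
    · rw [orderOf_eq_one_iff.1 h', one_pow]
    · rw [h', hjj, pow_one]
  rw [pow_mul, hw]
  exact pow_mem (pow_mem hl _) _

theorem T_le_of_normal {M : Subgroup W} [hM : M.Normal] {v : W} (hv : v ∈ M) (hvT : v ∈ T)
    (hv1 : v ≠ 1) : T ≤ M := by
  have hcm : ∀ {x : W} (g : W), x ∈ M → g * x * g⁻¹ ∈ M := fun g hx => hM.conj_mem _ hx g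
  rw [eq_tr_of_mem_T hvT] at hv hv1
  obtain ⟨x, y, x', y', h⟩ := weight_one_step _ _ _ hv1
  have hr := mul_mem (hcm (⟨0, 0, 0, x, y, 1⟩ : W) hv) (hcm (⟨0, 0, 0, x', y', 1⟩ : W) hv)
  have hu : u1 ∈ M := by
    have key : ∀ a b c : ZMod 3, weight (a, b, c) = 1 → tr a b c ∈ M → u1 ∈ M := fun a b c hw hm => by
      obtain ⟨x, y, i, hxyi⟩ := weight_one_orbit a b c hw
      rw [← hxyi]
      exact hcm _ hm
    rcases h with h | h | h | h | h | h <;> rw [h] at hr <;> exact key _ _ _ (by decide) hr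
  intro g hg
  rw [eq_tr_of_mem_T hg, tr_gen]
  exact mul_mem (mul_mem (pow_mem hu _) (pow_mem (hcm _ hu) _)) (pow_mem (hcm _ hu) _)

theorem normal_cases {M : Subgroup W} [hM : M.Normal] (hT : T ≤ M) :
    M = T ∨ M = P1 ∨ ∀ g : W, odd g.p = false → g ∈ M := by
  have hcm : ∀ {x : W} (g : W), x ∈ M → g * x * g⁻¹ ∈ M := fun g hx => hM.conj_mem _ hx g
  have hs : ∀ g : W, g ∈ M ↔ s0 g ∈ M := fun g => by
    conv_lhs => rw [split g]
    exact M.mul_mem_cancel_left (hT (tr_mem_T _ _ _))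
  by_cases hex : ∃ g ∈ M, g.p ≠ 1
  · right; right
    obtain ⟨g, hg, hgp⟩ := hex
    have hev : ∃ g ∈ M, g.p ≠ 1 ∧ odd g.p = false := by
      by_cases ho : odd g.p = false
      · exact ⟨g, hg, hgp, ho⟩
      · obtain ⟨x', y', i, h⟩ := odd_step g.e0 g.e1 g.p hgp (by simpa using ho)
        exact ⟨_, mul_mem (hcm _ ((hs g).1 hg)) (inv_mem ((hs g).1 hg)), h⟩
    obtain ⟨g, hg, hgp, hgo⟩ := hev
    intro k hk
    rw [hs]
    obtain ⟨a, b, i, a', b', i', h⟩ := even_step g.e0 g.e1 g.p hgp hgo k.e0 k.e1 k.p hk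
    have h1 := (hs g).1 hg
    rw [s0] at h1 ⊢
    rcases h with h | h <;> rw [← h]
    · exact mul_mem (hcm _ h1) (hcm _ h1)
    · exact mul_mem (hcm _ h1) (hcm _ (inv_mem h1))
  · push Not at hex
    by_cases hT' : M ≤ T
    · exact Or.inl (le_antisymm hT' hT)
    right; left
    refine le_antisymm (fun g hg => hex g hg) fun k hk => ?_
    obtain ⟨g, hg, hgT⟩ := SetLike.not_le_iff_exists.1 hT'
    have hor : (g.e0 || g.e1) = true := by
      rw [mem_T] at hgT
      have := hex g hg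
      cases h0 : g.e0 <;> cases h1 : g.e1 <;> first | rfl | exact absurd ⟨h0, h1, this⟩ hgT
    have h1 := (hs g).1 hg
    rw [hs]
    rw [s0, hex g hg] at h1
    rw [s0, show k.p = 1 from hk]
    by_cases hk' : (k.e0 || k.e1) = true
    · obtain ⟨i, h⟩ := four_step g.e0 g.e1 k.e0 k.e1 hor hk'
      rw [← h]
      exact hcm _ h1
    · have : k.e0 = false ∧ k.e1 = false := by simpa using hk'
      rw [this.1, this.2]
      exact one_mem M

theorem odd_mul : ∀ x y : Wreath2.D, odd (x * y) = xor (odd x) (odd y) := by decide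

theorem odd_inv : ∀ x : Wreath2.D, odd x⁻¹ = odd x := by decide

theorem odd_comm (a b : W) : odd (a * b * (b * a)⁻¹).p = false := by
  rw [mul_p, show ((b * a)⁻¹).p = ((b * a).p)⁻¹ from rfl, mul_p, mul_p, odd_mul, odd_inv, odd_mul,
    odd_mul, Bool.xor_comm (odd b.p), Bool.xor_self]

theorem odd_pow81 (g : W) (h : g ^ 81 = 1) : odd g.p = false := by
  have key : ∀ n : ℕ, odd (g ^ (2 * n + 1)).p = odd g.p := by
    intro n
    induction n with
    | zero => rw [Nat.mul_zero, zero_add, pow_one]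
    | succ n ih =>
      rw [show 2 * (n + 1) + 1 = (2 * n + 1) + 2 by ring, pow_add, mul_p, odd_mul, ih, pow_two, mul_p,
        odd_mul, Bool.xor_self, Bool.xor_false]
  have := key 40
  rw [show 2 * 40 + 1 = 81 from rfl, h] at this
  exact this.symm

/-! ## The subgroup inside the group -/

universe u

variable {G : Type u} [Group G] [Finite G]

theorem card_conj_centralizer (g a : G) :
    Nat.card (Subgroup.centralizer ({g * a * g⁻¹} : Set G)) =
      Nat.card (Subgroup.centralizer ({a} : Set G)) := by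
  refine (Nat.card_congr ((MulAut.conj g).toEquiv.subtypeEquiv fun x => ?_)).symm
  show x ∈ _ ↔ g * x * g⁻¹ ∈ _
  simp only [Subgroup.mem_centralizer_singleton_iff]
  rw [show g * x * g⁻¹ * (g * a * g⁻¹) = g * (x * a) * g⁻¹ by group,
    show g * a * g⁻¹ * (g * x * g⁻¹) = g * (a * x) * g⁻¹ by group, mul_left_inj, mul_right_inj]

theorem card_of_mem_iff {H : Subgroup G} (e : W ≃* H) (C : Subgroup G) (hC : C ≤ H) (p : W → Prop)
    [DecidablePred p] (h : ∀ v, (e v : G) ∈ C ↔ p v) :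
    Nat.card C = (Finset.univ.filter p).card := by
  rw [← Nat.card_eq_finsetCard]
  refine Nat.card_congr
    { toFun := fun x => ⟨e.symm ⟨x.1, hC x.2⟩, Finset.mem_filter.2 ⟨Finset.mem_univ _, (h _).1 (by
        rw [e.apply_symm_apply]; exact x.2)⟩⟩
      invFun := fun g => ⟨(e g.1 : G), (h _).2 (Finset.mem_filter.1 g.2).2⟩
      left_inv := fun x => by simp
      right_inv := fun g => by simp }

theorem comm_iff {H : Subgroup G} (e : W ≃* H) (a b : W) :
    (e a : G) * (e b : G) = (e b : G) * (e a : G) ↔ a * b = b * a := by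
  rw [← Subgroup.coe_mul, ← Subgroup.coe_mul, ← map_mul, ← map_mul]
  exact ⟨fun h => e.injective (Subtype.ext h), fun h => by rw [h]⟩

variable (H : Subgroup G) (e : W ≃* H) (J : Subgroup G)
  (hJ : ∀ g : G, g ∈ J ↔ ∃ v ∈ T, (e v : G) = g)
  (hC : ∀ j ∈ J, j ≠ 1 → Subgroup.centralizer ({j} : Set G) ≤ H)

include hJ in
omit [Finite G] in
theorem coe_mem_J {v : W} (hv : v ∈ T) : (e v : G) ∈ J := (hJ _).2 ⟨v, hv, rfl⟩

omit [Finite G] in
theorem coe_ne_one {v : W} (hv : v ≠ 1) : (e v : G) ≠ 1 := fun h =>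
  hv (e.injective ((Subtype.ext h).trans (map_one e).symm))

include hJ hC in
theorem card_cent_translation {v : W} (hv : v ∈ T) (hv1 : v ≠ 1) :
    Nat.card (Subgroup.centralizer ({(e v : G)} : Set G)) =
      (Finset.univ.filter fun g : W => g * v = v * g).card := by
  refine card_of_mem_iff e _ (hC _ (coe_mem_J H e J hJ hv) (coe_ne_one H e hv1)) _ fun g => ?_
  rw [Subgroup.mem_centralizer_singleton_iff, comm_iff]

include hJ hC in
/-- An element carrying a nontrivial element of `J` into `J` lies in `H`. -/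
theorem control {g t : G} (ht : t ∈ J) (ht1 : t ≠ 1) (hgt : g * t * g⁻¹ ∈ J) : g ∈ H := by
  obtain ⟨v, hv, rfl⟩ := (hJ t).1 ht
  obtain ⟨v', hv', hvg⟩ := (hJ _).1 hgt
  have hv1 : v ≠ 1 := fun h => ht1 (by rw [h, map_one]; rfl)
  have hv'1 : v' ≠ 1 := fun h => ht1 (conj_eq_one_iff.1 (by rw [← hvg, h, map_one]; rfl))
  have hu : u1 ≠ 1 ∧ u2 ≠ 1 ∧ u3 ≠ 1 := by decide
  have rep : ∀ v : W, v ∈ T → v ≠ 1 → ∃ x u : W, u ∈ T ∧ u ≠ 1 ∧ x * u * x⁻¹ = v ∧
      (u = u1 ∧ Nat.card (Subgroup.centralizer ({(e v : G)} : Set G)) = 108 ∨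
       u = u2 ∧ Nat.card (Subgroup.centralizer ({(e v : G)} : Set G)) = 54 ∨
       u = u3 ∧ Nat.card (Subgroup.centralizer ({(e v : G)} : Set G)) = 81) := by
    intro v hv hv1
    have hcard : ∀ x u : W, u ∈ T → u ≠ 1 → x * u * x⁻¹ = v →
        Nat.card (Subgroup.centralizer ({(e v : G)} : Set G)) =
          (Finset.univ.filter fun g : W => g * u = u * g).card := fun x u hu hu1 hxu => by
      rw [← hxu, map_mul, map_mul, map_inv, Subgroup.coe_mul, Subgroup.coe_mul, Subgroup.coe_inv,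
        card_conj_centralizer, card_cent_translation H e J hJ hC hu hu1]
    rw [eq_tr_of_mem_T hv] at hv1
    obtain ⟨x, y, i, h | h | h⟩ := orbit_rep _ _ _ hv1 <;> rw [← eq_tr_of_mem_T hv] at h
    · exact ⟨_, u1, tr_mem_T _ _ _, hu.1, h,
        Or.inl ⟨rfl, (hcard _ _ (tr_mem_T _ _ _) hu.1 h).trans card_cent_u.1⟩⟩
    · exact ⟨_, u2, tr_mem_T _ _ _, hu.2.1, h,
        Or.inr (Or.inl ⟨rfl, (hcard _ _ (tr_mem_T _ _ _) hu.2.1 h).trans card_cent_u.2.1⟩)⟩
    · exact ⟨_, u3, tr_mem_T _ _ _, hu.2.2, h,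
        Or.inr (Or.inr ⟨rfl, (hcard _ _ (tr_mem_T _ _ _) hu.2.2 h).trans card_cent_u.2.2⟩)⟩
  obtain ⟨x, w₁, hw₁, hw₁1, hxu, hcase⟩ := rep v hv hv1
  obtain ⟨y, w₂, -, -, hyu, hcase'⟩ := rep v' hv' hv'1
  have hsame : Nat.card (Subgroup.centralizer ({(e v' : G)} : Set G)) =
      Nat.card (Subgroup.centralizer ({(e v : G)} : Set G)) := by rw [hvg, card_conj_centralizer]
  rw [hsame] at hcase'
  have huu : w₂ = w₁ := by
    rcases hcase with ⟨h, k⟩ | ⟨h, k⟩ | ⟨h, k⟩ <;> rcases hcase' with ⟨h', k'⟩ | ⟨h', k'⟩ | ⟨h', k'⟩ <;>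
      first | exact h'.trans h.symm | (rw [k] at k'; norm_num at k')
  rw [huu] at hyu
  have hk : (e y : G)⁻¹ * g * (e x : G) ∈ Subgroup.centralizer ({(e w₁ : G)} : Set G) := by
    rw [Subgroup.mem_centralizer_singleton_iff]
    have h1 : g * ((e x : G) * (e w₁ : G) * (e x : G)⁻¹) * g⁻¹ =
        (e y : G) * (e w₁ : G) * (e y : G)⁻¹ := by
      rw [← Subgroup.coe_inv, ← Subgroup.coe_mul, ← Subgroup.coe_mul, ← map_inv, ← map_mul,
        ← map_mul, hxu, ← hvg, ← Subgroup.coe_inv, ← Subgroup.coe_mul, ← Subgroup.coe_mul, ← map_inv,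
        ← map_mul, ← map_mul, hyu]
    calc (e y : G)⁻¹ * g * (e x : G) * (e w₁ : G) =
        (e y : G)⁻¹ * (g * ((e x : G) * (e w₁ : G) * (e x : G)⁻¹) * g⁻¹) * (g * (e x : G)) := by group
      _ = (e y : G)⁻¹ * ((e y : G) * (e w₁ : G) * (e y : G)⁻¹) * (g * (e x : G)) := by rw [h1]
      _ = _ := by group
  have hkH := hC _ (coe_mem_J H e J hJ hw₁) (coe_ne_one H e hw₁1) hk
  have h2 := mul_mem (mul_mem (e y).2 hkH) (inv_mem (e x).2)
  rwa [show (e y : G) * ((e y : G)⁻¹ * g * (e x : G)) * (e x : G)⁻¹ = g by group] at h2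

include hJ hC in
theorem exists_degree_two : ∃ χ : IrrCharacter G, charDegree χ.1 = 2 := by
  classical
  haveI := Fintype.ofFinite G
  haveI := Fintype.ofFinite H
  have hm : ∀ v : W, v ∈ T → (e v : G) ∈ J := fun v hv => coe_mem_J H e J hJ hv
  have hu : u1 ≠ 1 ∧ u2 ≠ 1 := by decide
  have hord : ∀ v : W, v ∈ T → v ≠ 1 → orderOf (e v : G) = 3 := fun v hv hv1 => by
    have key : ∀ a b c : ZMod 3, tr a b c * (tr a b c * tr a b c) = 1 := by decide +kernel
    rw [Subgroup.orderOf_coe, MulEquiv.orderOf_eq]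
    exact orderOf_eq_prime (by rw [pow_three, eq_tr_of_mem_T hv]; exact key _ _ _) hv1
  have com : ∀ a b : W, a * b = b * a → Commute (e a : G) (e b : G) := fun a b h => (comm_iff e a b).2 h
  have hzw : ¬ IsConj (e z : G) (e w : G) := by
    refine S3716.not_isConj (N := H) (M := J) _ _ (e u1 : G) (e u2 : G) (hm _ (tr_mem_T _ _ _))
      (hord _ (tr_mem_T _ _ _) hu.1) (hord _ (tr_mem_T _ _ _) hu.2)
      (fun m hm' => ?_) (fun h hh => control H e J hJ hC (hm _ (tr_mem_T _ _ _)) (coe_ne_one H e hu.1) hh)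
      (hm _ (tr_mem_T _ _ _)) (com _ _ (by decide)) (com _ _ (by decide)) ?_ ?_
    · obtain ⟨v, hv, rfl⟩ := (hJ m).1 hm'
      refine com _ _ ?_
      have key : ∀ a b c : ZMod 3, tr a b c * u1 = u1 * tr a b c := by decide +kernel
      rw [eq_tr_of_mem_T hv]
      exact key _ _ _
    · rintro x y (⟨rfl, rfl⟩ | ⟨rfl, rfl⟩)
      · rw [card_of_mem_iff e (Subgroup.centralizer ({(e z : G), (e u1 : G)} : Set G))
          ((Subgroup.centralizer_le (Set.singleton_subset_iff.2
            (show (e u1 : G) ∈ ({(e z : G), (e u1 : G)} : Set G) from Or.inr rfl))).trans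
          (hC _ (hm _ (tr_mem_T _ _ _)) (coe_ne_one H e hu.1)))
          (fun g : W => g * u1 = u1 * g ∧ g * z = z * g) (fun g => by
            rw [Subgroup.mem_centralizer_iff]
            simp only [Set.mem_insert_iff, Set.mem_singleton_iff, forall_eq_or_imp, forall_eq, comm_iff]
            exact ⟨fun h => ⟨h.2.symm, h.1.symm⟩, fun h => ⟨h.2.symm, h.1.symm⟩⟩), card_cent_z]
        norm_num
      · rw [card_of_mem_iff e (Subgroup.centralizer ({(e w : G), (e u2 : G)} : Set G))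
          ((Subgroup.centralizer_le (Set.singleton_subset_iff.2
            (show (e u2 : G) ∈ ({(e w : G), (e u2 : G)} : Set G) from Or.inr rfl))).trans
          (hC _ (hm _ (tr_mem_T _ _ _)) (coe_ne_one H e hu.2)))
          (fun g : W => g * u2 = u2 * g ∧ g * w = w * g) (fun g => by
            rw [Subgroup.mem_centralizer_iff]
            simp only [Set.mem_insert_iff, Set.mem_singleton_iff, forall_eq_or_imp, forall_eq, comm_iff]
            exact ⟨fun h => ⟨h.2.symm, h.1.symm⟩, fun h => ⟨h.2.symm, h.1.symm⟩⟩), card_cent_w]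
        norm_num
    · intro h hh
      obtain ⟨v, hv⟩ := e.surjective ⟨h, hh⟩
      have hvh : (e v : G) = h := congrArg Subtype.val hv
      subst hvh
      have key : ∀ v : W, v * u1 * v⁻¹ ≠ u2 ∧ v * u1 * v⁻¹ ≠ u2⁻¹ := by decide +kernel
      refine ⟨fun h' => (key v).1 (e.injective (Subtype.ext ?_)),
        fun h' => (key v).2 (e.injective (Subtype.ext ?_))⟩ <;> simpa using h'
  set A : Finset G := classFinset (e z : G) with hA
  set B : Finset G := classFinset (e w : G) with hB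
  have hinv : ∀ v : W, v * v = 1 → (e v : G) * (e v : G) = 1 := fun v hv =>
    congrArg Subtype.val (show e v * e v = 1 by rw [← map_mul, hv, map_one])
  have hA2 : ∀ g ∈ A, g * g = 1 := classFinset_sq (hinv _ (by decide))
  have hB2 : ∀ g ∈ B, g * g = 1 := classFinset_sq (hinv _ (by decide))
  have hconjH : ∀ x v : W, IsConj (e v : G) (e (x * v * x⁻¹) : G) := fun x v =>
    isConj_iff.2 ⟨(e x : G), by simp⟩
  have hcaseA : ∀ v ∈ WA, (e v : G) ∈ A := fun v hv => by
    obtain ⟨x, rfl⟩ := mem_WA hv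
    exact mem_classFinset.2 (hconjH x _)
  have hcaseB : ∀ v ∈ WB, (e v : G) ∈ B := fun v hv => by
    obtain ⟨x, rfl⟩ := mem_WB hv
    exact mem_classFinset.2 (hconjH x _)
  have hAB : ∀ g, g ∈ A → g ∈ B → False := fun g h h' =>
    hzw ((mem_classFinset.1 h).trans (mem_classFinset.1 h').symm)
  have hne : ∀ a : W, a ≠ 1 → ∀ g ∈ classFinset (e a : G), g ≠ 1 := fun a ha g hg h => by
    subst h
    have h := mem_classFinset.1 hg
    rw [isConj_one_left] at h
    exact ha (e.injective ((Subtype.ext h).trans (map_one e).symm))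
  have hdich : ∀ v : W, (e v : G) * (e v : G) = 1 → (e v : G) ≠ 1 → v ∈ WA ∨ v ∈ WB := fun v h h1 =>
    invol_cases (e.injective (Subtype.ext (by simpa using h))) (fun hv => h1 (by rw [hv, map_one]; rfl))
  have himgA : inSub H A = WA.map e.toEquiv.toEmbedding := by
    ext h
    rw [mem_inSub, Finset.mem_map_equiv]
    constructor
    · intro hh
      have hh' : (e (e.symm h) : G) ∈ A := by rwa [e.apply_symm_apply]
      rcases hdich _ (hA2 _ hh') (hne z (by decide) _ hh') with h' | h'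
      · exact h'
      · exact absurd (hcaseB _ h') (hAB _ hh')
    · intro hh
      have := hcaseA _ hh
      rwa [show e (e.toEquiv.symm h) = h from e.apply_symm_apply h] at this
  have himgB : inSub H B = WB.map e.toEquiv.toEmbedding := by
    ext h
    rw [mem_inSub, Finset.mem_map_equiv]
    constructor
    · intro hh
      have hh' : (e (e.symm h) : G) ∈ B := by rwa [e.apply_symm_apply]
      rcases hdich _ (hB2 _ hh') (hne w (by decide) _ hh') with h' | h'
      · exact absurd hh' (hAB _ (hcaseA _ h'))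
      · exact h'
    · intro hh
      have := hcaseB _ hh
      rwa [show e (e.toEquiv.symm h) = h from e.apply_symm_apply h] at this
  let α : Fin 3 → H → ℂ := fun k h => (vec k (e.symm h) : ℂ)
  have hgen : ∀ k, IsGeneralizedCharacter H (α k) := fun k =>
    Char.IsGeneralizedCharacter.comp (isGen_vec k) e.symm.toMonoidHom
  let S : Set G := {g | ∃ v : W, (e v : G) = g ∧ inS v = true}
  have hS1 : (1 : G) ∉ S := fun ⟨v, hv, hv'⟩ => by
    obtain rfl : v = 1 := e.injective ((Subtype.ext hv).trans (map_one e).symm)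
    exact absurd hv' (by decide)
  have hS2 : ∀ g ∈ S, g * g ≠ 1 := fun g ⟨v, hv, hv'⟩ h => by
    subst hv
    exact (inS_spec v hv').1 (e.injective (Subtype.ext (by simpa using h)))
  have hTI : ∀ g : G, ∀ x ∈ S, g⁻¹ * x * g ∈ S → g ∈ H := by
    rintro g - ⟨v, rfl, hv⟩ ⟨v', hv', hS'⟩
    obtain ⟨k, hk, hk1⟩ := exists_pow_mem_T hv
    refine inv_mem_iff.1 (control H e J hJ hC (hm _ hk) (coe_ne_one H e hk1) ?_)
    have heq : g⁻¹ * (e (v ^ k) : G) * g⁻¹⁻¹ = (e (v' ^ k) : G) := by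
      rw [inv_inv, map_pow, map_pow, SubgroupClass.coe_pow, SubgroupClass.coe_pow, hv',
        show g⁻¹ * (e v : G) ^ k * g = (g⁻¹ * (e v : G) * g) ^ k by
          have := (conj_pow (a := g⁻¹) (b := (e v : G)) (i := k)).symm
          rwa [inv_inv] at this]
    rw [heq]
    refine hm _ (pow_mem_T_of_inS hS' (e.injective (Subtype.ext ?_)))
    have key : ∀ a b c : ZMod 3, tr a b c * (tr a b c * tr a b c) = 1 := by decide +kernel
    have h3 : (v ^ k) ^ 3 = 1 := by rw [pow_three, eq_tr_of_mem_T hk, key]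
    have h3' : (e (v ^ k) : G) ^ 3 = 1 := by rw [← SubgroupClass.coe_pow, ← map_pow, h3, map_one]; rfl
    rw [map_pow _ (v' ^ k), SubgroupClass.coe_pow, ← heq, conj_pow, h3', map_one, Subgroup.coe_one]
    group
  have hpair : ∀ a b : G, a * a = 1 → b * b = 1 → a * b ∈ H → a * b ∈ S → a ∈ H := by
    rintro a b ha hb - ⟨v, hv, hv'⟩
    obtain ⟨k, hk, hk1⟩ := exists_pow_mem_T hv'
    refine control H e J hJ hC (hm _ hk) (coe_ne_one H e hk1) ?_
    have hai : a⁻¹ = a := inv_eq_of_mul_eq_one_right ha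
    have hbi : b⁻¹ = b := inv_eq_of_mul_eq_one_right hb
    rw [map_pow, SubgroupClass.coe_pow, hv, ← conj_pow, show a * (a * b) * a⁻¹ = (a * b)⁻¹ by
      rw [mul_inv_rev, hai, hbi, ← mul_assoc, ha, one_mul], inv_pow, ← hv, ← SubgroupClass.coe_pow,
      ← map_pow]
    exact inv_mem (hm _ hk)
  have hα : ∀ k, ∀ h : H, (h : G) ∉ S → α k h = 0 := by
    intro k h hh
    have hf : inS (e.symm h) = false := by
      by_contra h'
      exact hh ⟨e.symm h, by rw [e.apply_symm_apply], by simpa using h'⟩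
    obtain ⟨a, b, c⟩ := vec_vanish _ hf
    show (vec k (e.symm h) : ℂ) = 0
    fin_cases k <;> simp [a, b, c]
  have hpo : ∀ (X Y : Finset W) k,
      pairOn (X.map e.toEquiv.toEmbedding) (Y.map e.toEquiv.toEmbedding) (α k) =
        ((∑ x ∈ X, ∑ y ∈ Y, vec k (x * y) : ℤ) : ℂ) := by
    intro X Y k
    simp [pairOn, α, Finset.sum_map]
  obtain ⟨V, p, q, hp0, hq0, -, hVV, hV1, hVd, hlin, hquad⟩ := exists_points A B
    (isConjInv_classFinset _) (isConjInv_classFinset _) hA2 hB2 hS1 hS2 hTI hpair α hgen hα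
    ![1944, 0, -972] ![1944, 1944, 972] ![3888, 1944, 2916]
    (fun k => by rw [himgA, hpo, vec_AA])
    (fun k => by rw [himgA, himgB, hpo, vec_AB])
    (fun k => by rw [himgB, hpo, vec_BB])
  have hcard : (Nat.card H : ℂ) = 648 := by
    rw [← Nat.card_congr e.toEquiv, card_W]; norm_num
  have hip : ∀ f f' : W → ℤ,
      classInner (fun h : H => (f (e.symm h) : ℂ)) (fun h => (f' (e.symm h) : ℂ)) =
        ((∑ v, f v * f' v : ℤ) : ℂ) / 648 := by
    intro f f'
    rw [classInner, hcard, div_eq_inv_mul, Int.cast_sum,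
      ← e.toEquiv.sum_comp (fun h => (f (e.symm h) : ℂ) * (starRingEnd ℂ) (f' (e.symm h) : ℂ))]
    simp
  have hG : ∀ k l, V k ⬝ᵥ V l = gram k l := by
    intro k l
    have h := (hVV k l).trans (hip (vec k) (vec l))
    rw [vec_gram, Int.cast_mul, Int.cast_ofNat, mul_div_cancel_left₀ _ (by norm_num)] at h
    exact_mod_cast h
  have hbase : ∀ k, V k (Char.trivialChar G) = 1 := by
    intro k
    have h := hV1 k
    rw [show (fun _ : H => (1 : ℂ)) = fun h => (((fun _ => 1 : W → ℤ) (e.symm h) : ℤ) : ℂ) by simp,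
      hip (vec k) (fun _ => 1)] at h
    simp only [mul_one, vec_sum] at h
    norm_num at h
    exact_mod_cast h
  let d : IrrCharacter G → ℤ := fun χ => (charDegree χ.1 : ℤ)
  have hd : ∀ χ, 0 < d χ := fun χ => Int.natCast_pos.2 (Char.charDegree_pos χ)
  have hd0 : d (Char.trivialChar G) = 1 := by
    have : (charDegree (Char.trivialChar G).1 : ℂ) = 1 := by simp [Char.charDegree_cast]
    show ((charDegree (Char.trivialChar G).1 : ℕ) : ℤ) = 1
    exact_mod_cast this
  set K : ℚ := (Nat.card G : ℚ) / (Nat.card H : ℚ) * 1944 with hK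
  have hK0 : K ≠ 0 := mul_ne_zero (div_ne_zero (Nat.cast_ne_zero.2 Nat.card_pos.ne')
    (Nat.cast_ne_zero.2 Nat.card_pos.ne')) (by norm_num)
  have hmom : ∀ (k : Fin 3) (g₁ g₂ g₃ : ℚ), ((![1944, 0, -972] k : ℤ) : ℚ) = 1944 * g₁ →
      ((![1944, 1944, 972] k : ℤ) : ℚ) = 1944 * g₂ → ((![3888, 1944, 2916] k : ℤ) : ℚ) = 1944 * g₃ →
      (∑ χ, (V k χ : ℚ) * d χ * p χ = 0) ∧ (∑ χ, (V k χ : ℚ) * d χ * q χ = 0) ∧
      (∑ χ, (V k χ : ℚ) * d χ * (p χ * p χ) = K * g₁) ∧
      (∑ χ, (V k χ : ℚ) * d χ * (p χ * q χ) = K * g₂) ∧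
      (∑ χ, (V k χ : ℚ) * d χ * (q χ * q χ) = K * g₃) := by
    intro k g₁ g₂ g₃ e1 e2 e3
    refine ⟨?_, ?_, ?_, ?_, ?_⟩
    · rw [← (hlin k).1]; simp [form, d, mul_assoc]
    · rw [← (hlin k).2]; simp [form, d, mul_assoc]
    all_goals simp only [d, Int.cast_natCast, mul_assoc]
    · rw [hK, mul_assoc, ← e1, ← (hquad k).1]; simp [form, mul_assoc]
    · rw [hK, mul_assoc, ← e2, ← (hquad k).2.1]; simp [form, mul_assoc]
    · rw [hK, mul_assoc, ← e3, ← (hquad k).2.2]; simp [form, mul_assoc]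
  have hU : MomentVec (Char.trivialChar G) d p q K 1 1 2 (V 0) := by
    obtain ⟨a, b, c, c', c''⟩ := hmom 0 1 1 2 (by simp) (by simp) (by simp <;> norm_num)
    exact ⟨hbase 0, hG 0 0, hVd 0, a, b, c, c', c''⟩
  have hW : MomentVec (Char.trivialChar G) d p q K 0 1 1 (V 1) := by
    obtain ⟨a, b, c, c', c''⟩ := hmom 1 0 1 1 (by simp) (by simp) (by simp)
    exact ⟨hbase 1, hG 1 1, hVd 1, a, b, c, c', c''⟩
  have hg : MomentFive (Char.trivialChar G) d p q K (-1/2) (1/2) (3/2) (V 2) := by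
    obtain ⟨a, b, c, c', c''⟩ :=
      hmom 2 (-1/2) (1/2) (3/2) (by simp; norm_num) (by simp; norm_num) (by simp; norm_num)
    exact ⟨hbase 2, hG 2 2, hVd 2, a, b, c, c', c''⟩
  obtain ⟨χ, -, h2⟩ := nine_core (p := p) (q := q) hd hd0 hp0 hq0 hK0 (V 0) (V 1) (V 2) hU hW hg
    (hG 0 1) (hG 0 2) (hG 1 2)
  exact ⟨χ, by exact_mod_cast (show ((charDegree χ.1 : ℕ) : ℤ) = 2 from h2)⟩

/-- A normal subgroup meeting `H` in `J` lies in `H`. -/
theorem le_of_inf_eq {J H M : Subgroup G} [M.Normal] (hJM : J ≤ M) (hHM : H ⊓ M = J)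
    (hcard : Nat.card J = 27) (hexp : ∀ x ∈ J, x ^ 3 = 1) (hJc : ∀ x ∈ J, ∀ y ∈ J, x * y = y * x)
    (hN : Subgroup.normalizer (J : Set G) ≤ H)
    (hC : ∀ j ∈ J, j ≠ 1 → Subgroup.centralizer ({j} : Set G) ≤ H) : M ≤ H := by
  classical
  haveI := Fact.mk Nat.prime_three
  have hnm : ∀ m : M, m ∈ Subgroup.normalizer ((J.subgroupOf M : Subgroup M) : Set M) → (m : G) ∈ J := by
    intro m hm
    have hmN : (m : G) ∈ Subgroup.normalizer (J : Set G) := by
      refine Subgroup.mem_normalizer_iff.2 fun y => ⟨fun hy => ?_, fun hy => ?_⟩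
      · exact (Subgroup.mem_normalizer_iff.1 hm ⟨y, hJM hy⟩).1 hy
      · have hyM : y ∈ M := by
          have := mul_mem (mul_mem (inv_mem m.2) (hJM hy)) m.2
          simpa [mul_assoc] using this
        exact (Subgroup.mem_normalizer_iff.1 hm ⟨y, hyM⟩).2 hy
    rw [← hHM]
    exact ⟨hN hmN, m.2⟩
  have hJp : IsPGroup 3 (J.subgroupOf M) := IsPGroup.of_card (n := 3) (by
    rw [Nat.card_congr (Subgroup.subgroupOfEquivOfLe hJM).toEquiv, hcard]; norm_num)
  obtain ⟨P, hJP⟩ := hJp.exists_le_sylow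
  have hP : (P : Subgroup M) = J.subgroupOf M := by
    by_contra hne
    have hlt : (J.subgroupOf M).subgroupOf (P : Subgroup M) < ⊤ := by
      rw [lt_top_iff_ne_top]
      exact fun h => hne (le_antisymm (Subgroup.subgroupOf_eq_top.1 h) hJP)
    haveI := P.2.isNilpotent
    obtain ⟨x, hx, hxT⟩ := SetLike.exists_of_lt (Group.normalizerCondition_of_isNilpotent _ hlt)
    refine hxT (hnm x.1 (Subgroup.mem_normalizer_iff.2 fun y => ⟨fun hy => ?_, fun hy => ?_⟩))
    · exact (Subgroup.mem_normalizer_iff.1 hx ⟨y, hJP hy⟩).1 hy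
    · have hyP : y ∈ (P : Subgroup M) := by
        have := mul_mem (mul_mem (inv_mem x.2) (hJP hy)) x.2
        simpa [mul_assoc] using this
      exact (Subgroup.mem_normalizer_iff.1 hx ⟨y, hyP⟩).2 hy
  have hburn : Subgroup.normalizer ((P : Subgroup M) : Set M) ≤
      Subgroup.centralizer ((P : Subgroup M) : Set M) := by
    rw [hP]
    intro m hm
    exact fun y hy => Subtype.ext (hJc _ hy _ (hnm m hm))
  set K := (MonoidHom.transferSylow P hburn).ker with hKdef
  have hK3 : ¬ 3 ∣ Nat.card K := MonoidHom.not_dvd_card_ker_transferSylow P hburn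
  have hcompl := MonoidHom.ker_transferSylow_isComplement' P hburn
  haveI : IsMulCommutative J := ⟨⟨fun a b => Subtype.ext (hJc _ a.2 _ b.2)⟩⟩
  have hKbot : K = ⊥ := by
    set K' := K.map M.subtype with hK'
    have hK'3 : ¬ 3 ∣ Nat.card K' := by rwa [hK', Subgroup.card_map_of_injective M.subtype_injective]
    have hJK : J ≤ Subgroup.normalizer (K' : Set G) := by
      refine le_trans ?_ (Subgroup.le_normalizer_map (H := K) M.subtype)
      rw [Subgroup.normalizer_eq_top_iff.2 (inferInstance : K.Normal)]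
      intro t ht
      exact ⟨⟨t, hJM ht⟩, Subgroup.mem_top _, rfl⟩
    have hcop : (Nat.card J).Coprime (Nat.card K') := by
      rw [hcard, show 27 = 3 ^ 3 by rfl]
      exact ((Nat.Prime.coprime_iff_not_dvd Nat.prime_three).2 hK'3).pow_left 3
    have hnc : ¬ IsCyclic J := by
      intro hcy
      obtain ⟨t, ht⟩ := hcy.exists_ofOrder_eq_natCard
      have : orderOf t ∣ 3 := orderOf_dvd_of_pow_eq_one (Subtype.ext (by
        rw [SubgroupClass.coe_pow]; exact hexp _ t.2))
      rw [ht, hcard] at this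
      exact absurd (Nat.le_of_dvd (by norm_num) this) (by norm_num)
    have hbot : (⊥ : Subgroup G) = K' := Coprime.eq_of_forall_centralizer_le hnc hJK hcop bot_le
      fun a ha ha1 => by
        rw [← Subgroup.inf_eq_bot_of_coprime hcop]
        refine le_inf ?_ inf_le_left
        exact (le_inf (inf_le_right.trans (hC a ha ha1))
          (inf_le_left.trans (Subgroup.map_subtype_le K))).trans hHM.le
    exact (Subgroup.map_eq_bot_iff_of_injective _ M.subtype_injective).1 hbot.symm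
  rw [show (MonoidHom.transferSylow P hburn).ker = ⊥ from hKbot, Subgroup.isComplement'_bot_left, hP,
    Subgroup.subgroupOf_eq_top] at hcompl
  exact hcompl.trans (hHM ▸ inf_le_left)

/-- The kernel of a character of degree two meets a group of order 27 and exponent three. -/
theorem exists_mem_kernel {J : Subgroup G} (hcard : Nat.card J = 27) (hexp : ∀ x ∈ J, x ^ 3 = 1)
    (hJc : ∀ x ∈ J, ∀ y ∈ J, x * y = y * x) {χ : IrrCharacter G} (h2 : χ.1 1 = 2) :
    ∃ x ∈ J, x ≠ 1 ∧ χ.1 x = χ.1 1 := by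
  classical
  haveI := Fintype.ofFinite G
  haveI := Fintype.ofFinite J
  by_contra hcon
  push Not at hcon
  obtain ⟨m, hm, -⟩ := Char.IsCharacter.exists_decomp
    (Char.IsCharacter.restrict (Char.irr_isCharacter χ) J)
  have hval : ∀ x : J, χ.1 x = ∑ ψ : IrrCharacter J, (m ψ : ℂ) * ψ.1 x := fun x => by
    have := congrFun hm x
    simpa using this
  have hlin : ∀ ψ : IrrCharacter J, ∃ lam : J →* ℂ, ⇑lam = ψ.1 := fun ψ =>
    Char.IsCharacter.exists_monoidHom (Char.irr_isCharacter ψ)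
      (Char.apply_one_of_comm (fun a b => Subtype.ext (hJc _ a.2 _ b.2)) ψ)
  choose lam hlam using hlin
  set S := Finset.univ.filter fun ψ : IrrCharacter J => m ψ ≠ 0 with hS
  have hS2 : S.card ≤ 2 := by
    have h := hval 1
    rw [show ((1 : J) : G) = 1 from rfl, h2] at h
    simp only [← hlam, map_one, mul_one] at h
    have h' : ∑ ψ : IrrCharacter J, m ψ = 2 := by exact_mod_cast h.symm
    rw [← h', Finset.card_eq_sum_ones]
    refine (Finset.sum_le_sum fun ψ hψ => Nat.one_le_iff_ne_zero.2 (Finset.mem_filter.1 hψ).2).trans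
      (Finset.sum_le_univ_sum_of_nonneg fun ψ => Nat.zero_le _)
  have hroot : ∀ (ψ : S) (x : J), ∃ i : Fin 3, ω ^ i.val = lam ψ.1 x := fun ψ x => by
    obtain ⟨i, hi, h⟩ := ω_prim.eq_pow_of_pow_eq_one (ξ := lam ψ.1 x) (by
      rw [← map_pow, show x ^ 3 = 1 from Subtype.ext (hexp _ x.2), map_one])
    exact ⟨⟨i, hi⟩, h⟩
  choose r hr using hroot
  have hinj : Function.Injective fun (x : J) (ψ : S) => r ψ x := by
    intro x y hxy
    have hv : ∀ ψ : IrrCharacter J, m ψ ≠ 0 → lam ψ x = lam ψ y := fun ψ hψ => by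
      have h : r ⟨ψ, Finset.mem_filter.2 ⟨Finset.mem_univ _, hψ⟩⟩ x =
          r ⟨ψ, Finset.mem_filter.2 ⟨Finset.mem_univ _, hψ⟩⟩ y := congrFun hxy _
      have hx := hr ⟨ψ, Finset.mem_filter.2 ⟨Finset.mem_univ _, hψ⟩⟩ x
      have hy := hr ⟨ψ, Finset.mem_filter.2 ⟨Finset.mem_univ _, hψ⟩⟩ y
      rw [h] at hx
      exact hx.symm.trans hy
    by_contra hne
    refine hcon _ (x * y⁻¹).2 (fun h => hne (mul_inv_eq_one.1 (Subtype.ext h))) ?_
    have h1 := hval 1
    rw [show ((1 : J) : G) = 1 from rfl] at h1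
    rw [hval, h1]
    refine Finset.sum_congr rfl fun ψ _ => ?_
    by_cases hψ : m ψ = 0
    · simp [hψ]
    · rw [← hlam ψ, map_mul, hv ψ hψ, ← map_mul, mul_inv_cancel]
  have hle := Nat.card_le_card_of_injective _ hinj
  rw [hcard, Nat.card_fun, Nat.card_fin, Nat.card_eq_finsetCard] at hle
  have := hle.trans (Nat.pow_le_pow_right (by norm_num) hS2)
  norm_num at this

include hJ hC in
theorem eq_top : H = ⊤ := by
  classical
  haveI := Fintype.ofFinite G
  haveI := Fact.mk Nat.prime_three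
  let π : W →* G := H.subtype.comp e.toMonoidHom
  have hπ : Function.Injective π := H.subtype_injective.comp e.injective
  have hπH : ∀ v, π v ∈ H := fun v => (e v).2
  have hJT : J = T.map π := by
    ext g
    rw [hJ, Subgroup.mem_map]
    rfl
  have hJH : J ≤ H := by rw [hJT]; rintro - ⟨v, -, rfl⟩; exact hπH v
  have hJcard : Nat.card J = 27 := by rw [hJT, Subgroup.card_map_of_injective hπ, card_T]
  have hJexp : ∀ x ∈ J, x ^ 3 = 1 := by
    rw [hJT]
    rintro - ⟨v, hv, rfl⟩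
    have key : ∀ a b c : ZMod 3, tr a b c * (tr a b c * tr a b c) = 1 := by decide +kernel
    rw [← map_pow, pow_three, eq_tr_of_mem_T hv, key, map_one]
  have hJc : ∀ x ∈ J, ∀ y ∈ J, x * y = y * x := by
    rw [hJT]
    rintro - ⟨v, hv, rfl⟩ - ⟨v', hv', rfl⟩
    have key : ∀ a b c a' b' c' : ZMod 3, tr a b c * tr a' b' c' = tr a' b' c' * tr a b c := by
      decide +kernel
    rw [← map_mul, ← map_mul, eq_tr_of_mem_T hv, eq_tr_of_mem_T hv', key]
  have hu1 : u1 ≠ 1 := by decide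
  have ht : (e u1 : G) ∈ J := coe_mem_J H e J hJ (tr_mem_T _ _ _)
  have ht1 : (e u1 : G) ≠ 1 := coe_ne_one H e hu1
  have hN : Subgroup.normalizer (J : Set G) ≤ H := fun g hg =>
    control H e J hJ hC ht ht1 ((Subgroup.mem_normalizer_iff.1 hg _).1 ht)
  obtain ⟨χ, hχ⟩ := exists_degree_two H e J hJ hC
  have hχ1 : χ.1 1 = 2 := by rw [← Char.charDegree_cast, hχ]; norm_num
  set K := CharInt.charKernel (Char.irr_isCharacter χ) with hK
  haveI hKn : K.Normal := CharInt.charKernel_normal (Char.irr_isCharacter χ)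
  set M := K.comap π with hM
  haveI hMn : M.Normal := Subgroup.normal_comap π
  have hTM : T ≤ M := by
    obtain ⟨x, hx, hx1, hxK⟩ := exists_mem_kernel hJcard hJexp hJc hχ1
    obtain ⟨v, hv, rfl⟩ := (hJ x).1 hx
    refine T_le_of_normal (show v ∈ M from ?_) hv (fun h => hx1 (by rw [h, map_one]; rfl))
    exact (CharInt.mem_charKernel (Char.irr_isCharacter χ)).2 hxK
  have hJK : J ≤ K := by rw [hJT]; exact Subgroup.map_le_iff_le_comap.2 hTM
  have hu3 : u1 * (u1 * u1) = 1 := by decide +kernel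
  have finish : (∀ v ∈ M, v * (v * v) = 1 → v ∈ T) → K ≤ H → H = ⊤ := fun hex hKH =>
    top_le_iff.1 fun g _ => control H e J hJ hC ht ht1 (by
      obtain ⟨v, hv⟩ := e.surjective ⟨_, hKH (hKn.conj_mem _ (hJK ht) g)⟩
      have hvg : π v = g * (e u1 : G) * g⁻¹ := congrArg Subtype.val hv
      rw [hJT, ← hvg]
      refine ⟨v, hex v (show π v ∈ K from hvg ▸ hKn.conj_mem _ (hJK ht) g) (hπ ?_), rfl⟩
      rw [map_one, map_mul, map_mul, hvg, ← pow_three, conj_pow, hJexp _ ht, mul_one, mul_inv_cancel])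
  rcases normal_cases hTM with hcase | hcase | hcase
  · refine finish (fun v hv _ => hcase ▸ hv)
      (le_of_inf_eq hJK (le_antisymm ?_ (le_inf hJH hJK)) hJcard hJexp hJc hN hC)
    intro g hg
    obtain ⟨v, hv⟩ := e.surjective ⟨g, hg.1⟩
    have hvg : π v = g := congrArg Subtype.val hv
    rw [hJT, ← hcase]
    exact ⟨v, show π v ∈ K from hvg ▸ hg.2, hvg⟩
  · refine finish (fun v hv h3 => ?_) ?_
    · have key : ∀ w : W, w.p = 1 → w * (w * w) = 1 → isT w = true := by decide +kernel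
      exact mem_T_iff_isT.2 (key v (mem_P1.1 (hcase ▸ hv)) h3)
    obtain ⟨f⟩ := exists_equiv_P1
    have hmap : P1.map π = H ⊓ K := by
      refine le_antisymm ?_ fun g hg => ?_
      · rintro - ⟨v, hv, rfl⟩
        exact ⟨hπH v, show v ∈ M from hcase ▸ hv⟩
      · obtain ⟨v, hv⟩ := e.surjective ⟨g, hg.1⟩
        have hvg : π v = g := congrArg Subtype.val hv
        exact ⟨v, hcase ▸ (show v ∈ M from show π v ∈ K from hvg ▸ hg.2), hvg⟩
    let H' := H.subgroupOf K
    let J' := J.subgroupOf K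
    have iso : H' ≃* S3Cube.K :=
      ((((Subgroup.equivMapOfInjective H' K.subtype K.subtype_injective).trans
        (MulEquiv.subgroupCongr (Subgroup.subgroupOf_map_subtype H K))).trans
        (MulEquiv.subgroupCongr hmap.symm)).trans
        (Subgroup.equivMapOfInjective P1 π hπ).symm).trans f
    have hHtop := S3701.result H' ⟨iso.trans S3Cube.equivPerm⟩ J' (fun x hx => hJH hx)
      (by rw [Nat.card_congr (Subgroup.subgroupOfEquivOfLe hJK).toEquiv, hJcard])
      (le_antisymm (fun k hk => control H e J hJ hC ht ht1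
          ((Subgroup.mem_normalizer_iff.1 hk ⟨_, hJK ht⟩).1 ht)) fun k hk => by
        obtain ⟨v, hv⟩ := e.surjective ⟨k.1, hk⟩
        have hvk : π v = (k : G) := congrArg Subtype.val hv
        refine Subgroup.mem_normalizer_iff.2 fun y => ?_
        show (y : G) ∈ J ↔ (k : G) * (y : G) * (k : G)⁻¹ ∈ J
        rw [hJT, ← hvk]
        constructor
        · rintro ⟨u, hu, hu'⟩
          exact ⟨v * u * v⁻¹, T_normal.conj_mem _ hu v, by rw [map_mul, map_mul, map_inv, hu']⟩
        · rintro ⟨u, hu, hu'⟩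
          refine ⟨v⁻¹ * u * v⁻¹⁻¹, T_normal.conj_mem _ hu v⁻¹, ?_⟩
          rw [map_mul, map_mul, map_inv, map_inv, map_inv, hu']
          group)
      (fun t ht' ht'1 x hx => hC (t : G) ht' (fun h => ht'1 (Subtype.ext h))
        (Subgroup.mem_centralizer_singleton_iff.2
          (congrArg Subtype.val (Subgroup.mem_centralizer_singleton_iff.1 hx))))
    exact Subgroup.subgroupOf_eq_top.1 hHtop
  · exfalso
    obtain ⟨P₀⟩ : Nonempty (Sylow 3 W) := inferInstance
    have hP0 : Nat.card P₀ = 81 := by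
      rw [P₀.card_eq_multiplicity, card_W, show (648 : ℕ) = 2 ^ 3 * 3 ^ 4 by norm_num,
        Nat.factorization_mul (by norm_num) (by norm_num), Nat.prime_two.factorization_pow,
        Nat.prime_three.factorization_pow]
      simp
    have hP0M : (P₀ : Subgroup W) ≤ M := fun g hg => hcase g (odd_pow81 g (by
      have h81 := Subgroup.orderOf_dvd_natCard (P₀ : Subgroup W) hg
      rw [hP0] at h81
      exact orderOf_dvd_iff_pow_eq_one.1 h81))
    have hTP0 : T ≤ (P₀ : Subgroup W) := fun g hg =>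
      PCore.pCore_le_sylow P₀ (by rw [pCore_eq]; exact hg)
    set P := (P₀ : Subgroup W).map π with hPdef
    have hP81 : Nat.card P = 81 := by rw [hPdef, Subgroup.card_map_of_injective hπ, hP0]
    have hPH : P ≤ H := by
      rintro - ⟨v, -, rfl⟩
      exact hπH v
    have hJP : J ≤ P := by rw [hJT]; exact Subgroup.map_mono hTP0
    have hNP : Subgroup.normalizer (P : Set G) ≤ H := fun g hg => by
      set A := J.map (MulAut.conj g).toMonoidHom with hA
      have hAP : A ≤ P := by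
        rintro - ⟨j, hj, rfl⟩
        exact (Subgroup.mem_normalizer_iff.1 hg j).1 (hJP hj)
      have hA27 : Nat.card A = 27 := by
        rw [hA, Subgroup.card_map_of_injective (MulAut.conj g).injective, hJcard]
      suffices hAJ : A ≤ J from
        control H e J hJ hC ht ht1 (hAJ ⟨_, ht, rfl⟩)
      by_contra hcon
      obtain ⟨y, hyA, hyJ⟩ := SetLike.not_le_iff_exists.1 hcon
      obtain ⟨vy, hvy, rfl⟩ := hAP hyA
      have hvyT : isT vy = false := by
        by_contra h'
        exact hyJ (hJT ▸ ⟨vy, mem_T_iff_isT.2 (by simpa using h'), rfl⟩)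
      obtain ⟨j, hj, hjy⟩ := hyA
      have h3 : vy * (vy * vy) = 1 := hπ (by
        rw [map_mul, map_mul, map_one, ← hjy, ← map_mul, ← map_mul, ← pow_three, hJexp _ hj, map_one])
      have count : ∀ y : W, isT y = false → y * (y * y) = 1 →
          (Finset.univ.filter fun t : V =>
            tr t.1 t.2.1 t.2.2 * y = y * tr t.1 t.2.1 t.2.2).card ≤ 3 := by
        decide +kernel
      have h9 : 9 ≤ Nat.card ↥(J ⊓ A) := by
        have e1 := Subgroup.relIndex_mul_relIndex _ _ _ (bot_le : ⊥ ≤ J) hJP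
        have e2 := Subgroup.relIndex_mul_relIndex _ _ _ (bot_le : ⊥ ≤ J ⊓ A) inf_le_right
        rw [Subgroup.relIndex_bot_left, Subgroup.relIndex_bot_left, hJcard, hP81] at e1
        rw [Subgroup.relIndex_bot_left, Subgroup.relIndex_bot_left, Subgroup.inf_relIndex_right,
          hA27] at e2
        have h3 : J.relIndex P = 3 := by omega
        have hle := Subgroup.relIndex_le_of_le_right (H := J) hAP (by omega)
        by_contra h8
        push Not at h8
        have : Nat.card ↥(J ⊓ A) * J.relIndex A ≤ 8 * 3 := Nat.mul_le_mul (by omega) (h3 ▸ hle)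
        omega
      have hsub : Nat.card ↥(J ⊓ A) ≤ (Finset.univ.filter fun t : V =>
          tr t.1 t.2.1 t.2.2 * vy = vy * tr t.1 t.2.1 t.2.2).card := by
        rw [← Nat.card_eq_finsetCard]
        have hmem : ∀ x : ↥(J ⊓ A), ∃ v ∈ T, π v = (x : G) ∧ v * vy = vy * v := fun x => by
          obtain ⟨v, hv, hvx⟩ := (hJ _).1 x.2.1
          obtain ⟨j', hj', hj'x⟩ := x.2.2
          refine ⟨v, hv, hvx, hπ ?_⟩
          rw [map_mul, map_mul, show π v = (x : G) from hvx, ← hj'x, ← hjy, ← map_mul, ← map_mul,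
            hJc _ hj' _ hj]
        choose f hf hfx hfc using hmem
        refine Nat.card_le_card_of_injective (fun x => (⟨((f x).t0, (f x).t1, (f x).t2),
          Finset.mem_filter.2 ⟨Finset.mem_univ _, ?_⟩⟩ : {t : V // t ∈ _})) fun x x' h => ?_
        · rw [← eq_tr_of_mem_T (hf x)]
          exact hfc x
        · simp only [Subtype.mk.injEq, Prod.mk.injEq] at h
          apply Subtype.ext
          rw [← hfx x, ← hfx x', eq_tr_of_mem_T (hf x), eq_tr_of_mem_T (hf x'), h.1, h.2.1, h.2.2]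
      exact absurd (h9.trans (hsub.trans (count vy hvyT h3))) (by norm_num)
    obtain ⟨Q, hPQ⟩ := (IsPGroup.of_card (n := 4) (show Nat.card P = 3 ^ 4 by rw [hP81]; norm_num)
      ).exists_le_sylow
    have hQ : (Q : Subgroup G) = P := by
      by_contra hne
      have hlt : P.subgroupOf (Q : Subgroup G) < ⊤ := by
        rw [lt_top_iff_ne_top]
        exact fun h => hne (le_antisymm (Subgroup.subgroupOf_eq_top.1 h) hPQ)
      haveI := Q.2.isNilpotent
      obtain ⟨x, hx, hxP⟩ := SetLike.exists_of_lt (Group.normalizerCondition_of_isNilpotent _ hlt)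
      have hxN : (x : G) ∈ Subgroup.normalizer (P : Set G) := by
        refine Subgroup.mem_normalizer_iff.2 fun y => ⟨fun hy => ?_, fun hy => ?_⟩
        · exact (Subgroup.mem_normalizer_iff.1 hx ⟨y, hPQ hy⟩).1 hy
        · have hyQ : y ∈ (Q : Subgroup G) := by
            have := mul_mem (mul_mem (inv_mem x.2) (hPQ hy)) x.2
            simpa [mul_assoc] using this
          exact (Subgroup.mem_normalizer_iff.1 hx ⟨y, hyQ⟩).2 hy
      have hQH : IsPGroup 3 ↥((Q : Subgroup G) ⊓ H) := Q.2.to_le inf_le_left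
      obtain ⟨n, hn⟩ := IsPGroup.iff_card.1 hQH
      have hdvd : 3 ^ n ∣ 648 := by
        have hH648 : Nat.card H = 648 := by rw [← Nat.card_congr e.toEquiv, card_W]
        rw [← hn, ← hH648]
        exact Subgroup.card_dvd_of_le inf_le_right
      have hn4 : n ≤ 4 := by
        by_contra hcon
        have := (pow_dvd_pow 3 (show 5 ≤ n by omega)).trans hdvd
        norm_num at this
      have heq := Subgroup.eq_of_le_of_card_ge (le_inf hPQ hPH) (by
        rw [hn, hP81]
        exact (Nat.pow_le_pow_right (by norm_num) hn4).trans (by norm_num))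
      exact hxP (show (x : G) ∈ P by rw [heq]; exact ⟨x.2, hNP hxN⟩)
    have hPK : (Q : Subgroup G) ≤ K := by
      rw [hQ]
      exact Subgroup.map_le_iff_le_comap.2 hP0M
    have hsup : H ⊔ K = ⊤ := top_le_iff.1 (by
      rw [← Sylow.normalizer_sup_eq_top' (N := K) Q hPK]
      refine sup_le_sup_right ?_ K
      show Subgroup.normalizer ((Q : Subgroup G) : Set G) ≤ H
      rw [hQ]
      exact hNP)
    obtain ⟨ψ, hψ⟩ := Char.exists_descend K χ fun k hk => (CharInt.mem_charKernel _).1 hk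
    have hcomm : ∀ a b : G ⧸ K, a * b = b * a := by
      have hmap : H.map (QuotientGroup.mk' K) = ⊤ := by
        have h := congrArg (Subgroup.map (QuotientGroup.mk' K)) hsup
        rw [Subgroup.map_sup, Subgroup.map_top_of_surjective _ (QuotientGroup.mk'_surjective K),
          show K.map (QuotientGroup.mk' K) = ⊥ from
            (Subgroup.map_eq_bot_iff K).2 (by rw [QuotientGroup.ker_mk']), sup_bot_eq] at h
        exact h
      intro a b
      obtain ⟨x, hx, rfl⟩ := Subgroup.mem_map.1 (hmap ▸ Subgroup.mem_top a)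
      obtain ⟨y, hy, rfl⟩ := Subgroup.mem_map.1 (hmap ▸ Subgroup.mem_top b)
      rw [← map_mul, ← map_mul, ← mul_inv_eq_one, ← map_inv, ← map_mul, QuotientGroup.mk'_apply,
        QuotientGroup.eq_one_iff]
      obtain ⟨v, hv⟩ := e.surjective ⟨x, hx⟩
      obtain ⟨v', hv'⟩ := e.surjective ⟨y, hy⟩
      rw [← show π v = x from congrArg Subtype.val hv, ← show π v' = y from congrArg Subtype.val hv']
      simp only [← map_mul, ← map_inv]
      exact hcase _ (odd_comm v v')
    have h1 := Char.apply_one_of_comm hcomm ψ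
    rw [show (1 : G ⧸ K) = ((1 : G) : G ⧸ K) from rfl, hψ, hχ1] at h1
    norm_num at h1

end Cfsg.Agent.Exceptional.Nine
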