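import Cfsg.Agent.Lib.Exceptional.Nine
import Cfsg.Agent.Lib.Exceptional.S3Cube
import Cfsg.Agent.Lib.PCore.Basic

/-!
# Facts on the model of `3³ : S₄`: characters, identification inside `Sym(9)`, subgroups
-/

set_option autoImplicit false

namespace Cfsg.Agent.Exceptional.Nine

open Cfsg

open Wreath2 (D act3 act3_one act3_mul)

/-! ## Monomial representations -/

section Monomial

variable {G : Type*} [Group G] {X : Type} [Fintype X] [DecidableEq X]

/-- The representation attached to an action and a cocycle. -/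
noncomputable def monoRep (a : G →* Equiv.Perm X) (c : G → X → ℂ) (hc1 : ∀ x, c 1 x = 1)
    (hc : ∀ g h x, c (g * h) x = c g (a h x) * c h x) : Representation ℂ G (X → ℂ) where
  toFun g :=
    { toFun := fun f y => c g (a g⁻¹ y) * f (a g⁻¹ y)
      map_add' := fun f f' => by funext y; simp [mul_add]
      map_smul' := fun r f => by funext y; simp; ring }
  map_one' := by
    ext f y
    simp [hc1, Pi.single_apply]
  map_mul' g h := by
    refine LinearMap.ext fun f => funext fun y => ?_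
    have h1 : a (g * h)⁻¹ y = a h⁻¹ (a g⁻¹ y) := by rw [mul_inv_rev, map_mul]; rfl
    have h2 : a h (a h⁻¹ (a g⁻¹ y)) = a g⁻¹ y := by
      rw [← Equiv.Perm.mul_apply, ← map_mul, mul_inv_cancel, map_one]; rfl
    show c (g * h) (a (g * h)⁻¹ y) * f (a (g * h)⁻¹ y) =
      c g (a g⁻¹ y) * (c h (a h⁻¹ (a g⁻¹ y)) * f (a h⁻¹ (a g⁻¹ y)))
    rw [h1, hc, h2, mul_assoc]

theorem isCharacter_mono (a : G →* Equiv.Perm X) (c : G → X → ℂ) (hc1 : ∀ x, c 1 x = 1)
    (hc : ∀ g h x, c (g * h) x = c g (a h x) * c h x) :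
    IsCharacter G fun g => ∑ x : X, if a g x = x then c g x else 0 := by
  have : (fun g => ∑ x : X, if a g x = x then c g x else 0) = (monoRep a c hc1 hc).character := by
    funext g
    rw [Representation.character, LinearMap.trace_eq_matrix_trace ℂ (Pi.basisFun ℂ X),
      LinearMap.toMatrix_eq_toMatrix', Matrix.trace]
    refine Finset.sum_congr rfl fun x _ => ?_
    simp only [Matrix.diag_apply, LinearMap.toMatrix'_apply, monoRep, MonoidHom.coe_mk, OneHom.coe_mk,
      LinearMap.coe_mk, AddHom.coe_mk, Pi.single_apply]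
    have hiff : a g x = x ↔ a g⁻¹ x = x := by
      rw [map_inv, Equiv.Perm.inv_eq_iff_eq, eq_comm]
    by_cases h : a g x = x
    · rw [if_pos h, hiff.1 h, if_pos rfl, mul_one]
    · rw [if_neg h, if_neg (fun h' => h (hiff.2 h')), mul_zero]
  rw [this]
  exact Char.isCharacter_character _

end Monomial

/-- A fixed primitive cube root of unity. -/
noncomputable def ω : ℂ := Complex.exp (2 * Real.pi * Complex.I / 3)

theorem ω_prim : IsPrimitiveRoot ω 3 := Complex.isPrimitiveRoot_exp 3 (by norm_num)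

/-- The additive character of `ZMod 3`. -/
noncomputable def zp (i : ZMod 3) : ℂ := ω ^ i.val

theorem zp_add (i j : ZMod 3) : zp (i + j) = zp i * zp j := by
  rw [zp, zp, zp, ← pow_add, ZMod.val_add, ← pow_eq_pow_mod _ ω_prim.pow_eq_one]

/-- The triples of weight `k`. -/
abbrev Vk (k : ℕ) : Type := {v : V // weight v = k}

/-- The action on the triples of weight `k`. -/
def aV (k : ℕ) : W →* Equiv.Perm (Vk k) where
  toFun g :=
    ⟨fun v => ⟨lin g v.1, (weight_lin g v.1).trans v.2⟩,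
      fun v => ⟨lin g⁻¹ v.1, (weight_lin g⁻¹ v.1).trans v.2⟩,
      fun v => Subtype.ext (show lin g⁻¹ (lin g v.1) = v.1 by rw [← lin_mul, inv_mul_cancel, lin_one]),
      fun v => Subtype.ext (show lin g (lin g⁻¹ v.1) = v.1 by rw [← lin_mul, mul_inv_cancel, lin_one])⟩
  map_one' := Equiv.ext fun v => Subtype.ext (lin_one v.1)
  map_mul' g h := Equiv.ext fun v => Subtype.ext (lin_mul g h v.1)

theorem coc_one (μ : Bool) : ∀ v, coc μ 1 v = 0 := by revert μ; decide +kernel

theorem isGen_mono (k : Fin 4) (μ : Bool)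
    (hsymm : ∀ g, cnt k μ g 1 = cnt k μ g 2) :
    IsGeneralizedCharacter W (fun g => (mono k μ g : ℂ)) := by
  classical
  have h := Char.IsCharacter.isGeneralized (isCharacter_mono (aV k) (fun g v => zp (coc μ g v.1))
    (fun v => by rw [coc_one]; simp [zp]) (fun g h v => by rw [coc_mul, zp_add]; rfl))
  convert h using 1
  funext g
  have e1 : (∑ v : Vk k, if aV k g v = v then zp (coc μ g v.1) else 0) =
      ∑ v ∈ (vecs k).toFinset.filter (fun v => lin g v = v), zp (coc μ g v) := by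
    rw [Finset.sum_filter, @Finset.sum_subtype V ℂ _ (fun v => weight v = (k : ℕ)) inferInstance _ (fun v => List.mem_toFinset.trans (mem_vecs k v))
      (fun v => if lin g v = v then zp (coc μ g v) else 0)]
    refine Finset.sum_congr (Finset.ext fun v => by simp) fun v _ => ?_
    refine if_congr ?_ rfl rfl
    exact ⟨fun h => congrArg Subtype.val h, fun h => Subtype.ext h⟩
  have e2 : ∀ j : ZMod 3, (((vecs k).toFinset.filter (fun v => lin g v = v)).filter
      (fun v => coc μ g v = j)).card = cnt k μ g j := by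
    intro j
    rw [Finset.filter_filter, cnt, List.countP_eq_length_filter,
      ← List.toFinset_card_of_nodup ((vecs_nodup k).filter _), List.toFinset_filter]
    simp
  rw [e1, ← Finset.sum_fiberwise _ (fun v => coc μ g v)]
  have e3 : ∀ j : ZMod 3, ∑ v ∈ ((vecs k).toFinset.filter (fun v => lin g v = v)).filter
      (fun v => coc μ g v = j), zp (coc μ g v) = (cnt k μ g j : ℂ) * zp j := by
    intro j
    rw [Finset.sum_congr rfl (fun v hv => by rw [(Finset.mem_filter.1 hv).2] :
      ∀ v ∈ _, zp (coc μ g v) = zp j), Finset.sum_const, e2, nsmul_eq_mul]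
  simp only [e3]
  rw [show (Finset.univ : Finset (ZMod 3)) = {0, 1, 2} from rfl, Finset.sum_insert (by decide),
    Finset.sum_pair (by decide)]
  have h3 : (1 : ℂ) + ω + ω ^ 2 = 0 := by
    have := ω_prim.geom_sum_eq_zero (by norm_num)
    simpa [Finset.sum_range_succ] using this
  rw [mono, ← hsymm g]
  simp only [zp, show (0 : ZMod 3).val = 0 from rfl, show (1 : ZMod 3).val = 1 from rfl,
    show (2 : ZMod 3).val = 2 from rfl, pow_zero, pow_one, Int.cast_sub, Int.cast_natCast]
  linear_combination (-(cnt k μ g 1 : ℂ)) * h3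

/-- The permutation of the three indices. -/
def aI : W →* Equiv.Perm (ZMod 3) where
  toFun g := ⟨act3 g.p, act3 g.p⁻¹, fun i => by rw [← act3_mul, inv_mul_cancel, act3_one],
    fun i => by rw [← act3_mul, mul_inv_cancel, act3_one]⟩
  map_one' := Equiv.ext fun i => act3_one i
  map_mul' g h := Equiv.ext fun i => act3_mul g.p h.p i

theorem isGen_fixX {X : Type} [Fintype X] [DecidableEq X] (ρ : W →* Equiv.Perm X) :
    IsGeneralizedCharacter W (fun g => ((Finset.univ.filter fun p => ρ g p = p).card : ℂ)) := by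
  have h := Char.IsCharacter.isGeneralized
    (Char.IsCharacter.comp (Char.isCharacter_fixedBy (G := Equiv.Perm X) X) ρ)
  convert h using 1
  funext g
  congr 1
  rw [Nat.card_eq_fintype_card, ← Fintype.card_subtype]
  exact Fintype.card_congr (Equiv.refl _)

theorem isChar_sign (f : W → ℤ) (h1 : f 1 = 1) (hmul : ∀ g h, f (g * h) = f g * f h) :
    IsCharacter W (fun g => (f g : ℂ)) :=
  Char.IsIrrCharacter.isCharacter (Char.isIrrCharacter_of_monoidHom
    { toFun := fun g => (f g : ℂ), map_one' := by simp [h1], map_mul' := fun g h => by simp [hmul] })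

theorem isGen_τ : IsGeneralizedCharacter W (fun g => (τ g : ℂ)) := by
  have h1 := Char.IsCharacter.isGeneralized (Char.isCharacter_one (G := W))
  have h := Char.IsGeneralizedCharacter.sub (isGen_fixX aI) h1
  convert h using 1
  funext g
  have : ((([0, 1, 2] : List (ZMod 3)).countP fun i => decide (act3 g.p i = i) : ℕ) : ℤ) =
      ((Finset.univ.filter fun i => aI g i = i).card : ℤ) := by
    have key : ∀ x : D, ([0, 1, 2] : List (ZMod 3)).countP (fun i => decide (act3 x i = i)) =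
        (Finset.univ.filter fun i => act3 x i = i).card := by decide +kernel
    rw [key]
    rfl
  rw [τ, this]
  simp

theorem isGen_ρ' : IsGeneralizedCharacter W (fun g => (ρ' g : ℂ)) := by
  have hsgn : ∀ a b : Bool, (if xor a b then (-1 : ℂ) else 1) =
      (if a then (-1 : ℂ) else 1) * (if b then (-1 : ℂ) else 1) := fun a b => by
    cases a <;> cases b <;> simp
  have h := Char.IsCharacter.isGeneralized (isCharacter_mono aI
    (fun g i => if ee g (act3 g.p i) then (-1 : ℂ) else 1)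
    (fun i => by rw [one_ee]; rfl)
    (fun g h i => by
      show (if ee (g * h) (act3 (g.p * h.p) i) then (-1 : ℂ) else 1) =
        (if ee g (act3 g.p (act3 h.p i)) then (-1 : ℂ) else 1) *
          (if ee h (act3 h.p i) then (-1 : ℂ) else 1)
      rw [ee_mul, act3_mul, ← hsgn, ← act3_mul g.p⁻¹, inv_mul_cancel, act3_one]))
  convert h using 1
  funext g
  rw [ρ', show (Finset.univ : Finset (ZMod 3)) = {0, 1, 2} from rfl, Finset.sum_insert (by decide),
    Finset.sum_pair (by decide)]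
  have key : ∀ i : ZMod 3, ((if act3 g.p i = i then (if ee g i then (-1 : ℤ) else 1) else 0 : ℤ) : ℂ) =
      if aI g i = i then (if ee g (act3 g.p i) then (-1 : ℂ) else 1) else 0 := by
    intro i
    show _ = if act3 g.p i = i then (if ee g (act3 g.p i) then (-1 : ℂ) else 1) else 0
    by_cases hi : act3 g.p i = i
    · rw [if_pos hi, if_pos hi, hi]
      split_ifs <;> simp
    · rw [if_neg hi, if_neg hi, Int.cast_zero]
  simp only [List.map_cons, List.map_nil, List.sum_cons, List.sum_nil, add_zero, Int.cast_add, key]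

theorem isGen_ε : IsGeneralizedCharacter W (fun g => (ε g : ℂ)) :=
  Char.IsCharacter.isGeneralized (isChar_sign ε rfl (by
    intro g h
    have key : ∀ x y : D, (if odd (x * y) then (-1 : ℤ) else 1) =
        (if odd x then -1 else 1) * (if odd y then -1 else 1) := by decide
    exact key g.p h.p))

theorem isGen_vec : ∀ k, IsGeneralizedCharacter W (fun g => (vec k g : ℂ)) := by
  have one : IsGeneralizedCharacter W (fun _ => (1 : ℂ)) :=
    Char.IsCharacter.isGeneralized Char.isCharacter_one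
  have sub : ∀ {f g : W → ℂ}, IsGeneralizedCharacter W f → IsGeneralizedCharacter W g →
      IsGeneralizedCharacter W (fun x => f x - g x) := fun h1 h2 => Char.IsGeneralizedCharacter.sub h1 h2
  have add : ∀ {f g : W → ℂ}, IsGeneralizedCharacter W f → IsGeneralizedCharacter W g →
      IsGeneralizedCharacter W (fun x => f x + g x) := fun h1 h2 => Char.IsGeneralizedCharacter.add h1 h2
  have mul : ∀ {f g : W → ℂ}, IsGeneralizedCharacter W f → IsGeneralizedCharacter W g →
      IsGeneralizedCharacter W (fun x => f x * g x) := fun h1 h2 => Char.IsGeneralizedCharacter.mul h1 h2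
  have m1 := isGen_mono 1 false (fun g => (cnt_symm g).1)
  have m2 := isGen_mono 2 false (fun g => (cnt_symm g).2.1)
  have m3 := isGen_mono 3 false (fun g => (cnt_symm g).2.2.1)
  have m3' := isGen_mono 3 true (fun g => (cnt_symm g).2.2.2)
  intro k
  fin_cases k <;> simp only [vec, Int.cast_sub, Int.cast_add, Int.cast_mul, Int.cast_one]
  exacts [sub (add (add one isGen_τ) isGen_ρ') m1,
    add (sub (sub one (mul isGen_ε isGen_ρ')) m1) m3',
    sub (add (sub (sub one isGen_τ) isGen_ρ') (mul isGen_ε m2)) m3]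

/-! ## Classes and centralisers -/

/-- The first involution. -/
def z : W := ⟨0, 0, 0, false, true, 1⟩
/-- The second involution. -/
def w : W := ⟨0, 0, 0, true, false, .sr 0⟩
/-- A translation fixed by `z`. -/
def u1 : W := tr 1 0 0
/-- A translation fixed by `w`. -/
def u2 : W := tr 0 1 1
/-- A translation of weight three. -/
def u3 : W := tr 1 1 1

theorem mem_WA {g : W} (hg : g ∈ WA) : ∃ x, x * z * x⁻¹ = g := by
  obtain ⟨t0, t1, t2, i, h⟩ : ∃ a b c : ZMod 3, ∃ i : ZMod 3,
      (⟨a, b, c, false, false, .r i⟩ : W) * z * (⟨a, b, c, false, false, .r i⟩ : W)⁻¹ = g := by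
    revert g; decide +kernel
  exact ⟨_, h⟩

theorem mem_WB {g : W} (hg : g ∈ WB) : ∃ x, x * w * x⁻¹ = g := by
  obtain ⟨a, b, c, x, y, i, h⟩ : ∃ a b c : ZMod 3, ∃ x y : Bool, ∃ i : ZMod 3,
      (⟨a, b, c, x, y, .r i⟩ : W) * w * (⟨a, b, c, x, y, .r i⟩ : W)⁻¹ = g := by
    revert g; decide +kernel
  exact ⟨_, h⟩

theorem invol_cases {g : W} (h : g * g = 1) (h1 : g ≠ 1) : g ∈ WA ∨ g ∈ WB := by
  by_cases hp : g.p = 1
  · exact Or.inl (Finset.mem_filter.2 ⟨Finset.mem_univ _, hp, h1, h⟩)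
  · exact Or.inr (Finset.mem_filter.2 ⟨Finset.mem_univ _, hp, h⟩)

theorem card_cent_z :
    (Finset.univ.filter fun g : W => g * u1 = u1 * g ∧ g * z = z * g).card = 12 := by
  decide +kernel

theorem card_cent_w :
    (Finset.univ.filter fun g : W => g * u2 = u2 * g ∧ g * w = w * g).card = 6 := by
  decide +kernel

theorem card_cent_u :
    (Finset.univ.filter fun g : W => g * u1 = u1 * g).card = 108 ∧
      (Finset.univ.filter fun g : W => g * u2 = u2 * g).card = 54 ∧
      (Finset.univ.filter fun g : W => g * u3 = u3 * g).card = 81 := by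
  decide +kernel

theorem orbit_rep : ∀ a b c : ZMod 3, tr a b c ≠ 1 → ∃ x y : Bool, ∃ i : D,
    (⟨0, 0, 0, x, y, i⟩ : W) * u1 * (⟨0, 0, 0, x, y, i⟩ : W)⁻¹ = tr a b c ∨
    (⟨0, 0, 0, x, y, i⟩ : W) * u2 * (⟨0, 0, 0, x, y, i⟩ : W)⁻¹ = tr a b c ∨
    (⟨0, 0, 0, x, y, i⟩ : W) * u3 * (⟨0, 0, 0, x, y, i⟩ : W)⁻¹ = tr a b c := by
  decide +kernel

/-! ## Subgroups -/

/-- The translation subgroup. -/
def T : Subgroup W where
  carrier := {g | g.e0 = false ∧ g.e1 = false ∧ g.p = 1}
  one_mem' := ⟨rfl, rfl, rfl⟩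
  mul_mem' := by
    rintro g h ⟨a, b, c⟩ ⟨a', b', c'⟩
    have he : ∀ (k : W), k.e0 = false → k.e1 = false → k.p = 1 → ∀ i, ee k i = false := by
      intro k x y z i
      rw [ee, x, y, z]
      fin_cases i <;> rfl
    refine ⟨?_, ?_, by rw [mul_p, c, c', one_mul]⟩
    · show ee (g * h) 0 = false
      rw [ee_mul, he g a b c, he h a' b' c']; rfl
    · show ee (g * h) 1 = false
      rw [ee_mul, he g a b c, he h a' b' c']; rfl
  inv_mem' := by
    rintro g ⟨a, b, c⟩
    have he : ∀ i, ee g i = false := by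
      intro i
      rw [ee, a, b, c]
      fin_cases i <;> rfl
    exact ⟨he _, he _, (show g.p⁻¹ = 1 by rw [c, inv_one])⟩

theorem mem_T {g : W} : g ∈ T ↔ g.e0 = false ∧ g.e1 = false ∧ g.p = 1 := Iff.rfl

theorem mem_T_iff_isT {g : W} : g ∈ T ↔ isT g = true := by
  simp [mem_T, isT, and_assoc]

theorem eq_tr_of_mem_T {g : W} (h : g ∈ T) : g = tr g.t0 g.t1 g.t2 :=
  isT_iff.1 (mem_T_iff_isT.1 h)

theorem tr_mem_T (a b c : ZMod 3) : tr a b c ∈ T := ⟨rfl, rfl, rfl⟩

theorem conj_tr : ∀ (g : W) (a b c : ZMod 3), isT (g * tr a b c * g⁻¹) = true := by decide +kernel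

instance T_normal : T.Normal :=
  ⟨fun n hn g => by rw [eq_tr_of_mem_T hn, mem_T_iff_isT]; exact conj_tr _ _ _ _⟩

theorem card_T : Nat.card T = 27 := by
  rw [Nat.card_congr (β := ZMod 3 × ZMod 3 × ZMod 3)
    { toFun := fun g => (g.1.t0, g.1.t1, g.1.t2)
      invFun := fun t => ⟨tr t.1 t.2.1 t.2.2, tr_mem_T _ _ _⟩
      left_inv := fun g => Subtype.ext (eq_tr_of_mem_T g.2).symm
      right_inv := fun _ => rfl }]
  simp

theorem card_W : Nat.card W = 648 := by
  rw [Nat.card_eq_fintype_card]; decide +kernel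

/-- The ninth power, squared twice. -/
def pow81 (g : W) : W :=
  let c := fun x : W => x * x * x
  c (c (c (c g)))

theorem pow81_eq (g : W) : pow81 g = g ^ 81 := by
  simp only [pow81]
  rw [show (81 : ℕ) = 3 * 3 * 3 * 3 from rfl, pow_mul, pow_mul, pow_mul]
  simp only [pow_three, mul_assoc]

theorem not_three_core : ∀ g : W, isT g = false →
    pow81 g ≠ 1 ∨ pow81 (g * ((⟨0, 0, 0, true, true, 1⟩ : W) * g⁻¹ * (⟨0, 0, 0, true, true, 1⟩ : W)⁻¹)) ≠ 1 := by
  decide +kernel

theorem pCore_eq : pCore 3 W = T := by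
  haveI := Fact.mk Nat.prime_three
  refine le_antisymm (fun g hg => ?_) (PCore.le_pCore (IsPGroup.of_card (n := 3) card_T))
  by_contra hT
  have hT' : isT g = false := by
    rw [mem_T_iff_isT] at hT
    simpa using hT
  have h81 : ∀ x ∈ pCore 3 W, pow81 x = 1 := fun x hx => by
    obtain ⟨k, hk⟩ := PCore.isPGroup_pCore (p := 3) (G := W) ⟨x, hx⟩
    have h1 : orderOf x ∣ 3 ^ k := orderOf_dvd_of_pow_eq_one (congrArg Subtype.val hk)
    have h2 : orderOf x ∣ 81 * 8 := by
      have := orderOf_dvd_natCard x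
      rwa [card_W] at this
    rw [pow81_eq, ← orderOf_dvd_iff_pow_eq_one]
    exact (Nat.Coprime.coprime_dvd_left h1 (Nat.Coprime.pow_left k (by norm_num))).dvd_of_dvd_mul_right h2
  rcases not_three_core g hT' with h | h
  · exact h (h81 g hg)
  · exact h (h81 _ (mul_mem hg (PCore.pCore_normal.conj_mem _ (inv_mem hg) _)))

/-- The elements with trivial permutation. -/
def P1 : Subgroup W where
  carrier := {g | g.p = 1}
  one_mem' := rfl
  mul_mem' {g h} a b := by
    show (g * h).p = 1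
    rw [mul_p, show g.p = 1 from a, show h.p = 1 from b, one_mul]
  inv_mem' {g} a := by
    show g.p⁻¹ = 1
    rw [show g.p = 1 from a, inv_one]

theorem mem_P1 {g : W} : g ∈ P1 ↔ g.p = 1 := Iff.rfl

/-- An element of `D` from a translation and a sign. -/
def dval (t : ZMod 3) : Bool → S3Cube.D
  | false => .r t
  | true => .sr (-t)

theorem dval_mul : ∀ (a b : ZMod 3) (x y : Bool),
    dval (a + sg x * b) (xor x y) = dval a x * dval b y := by
  decide

/-- The three blocks of an element with trivial permutation. -/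
def blocks : P1 →* S3Cube.D × S3Cube.D × S3Cube.D where
  toFun g := (dval (tt g.1 0) (ee g.1 0), dval (tt g.1 1) (ee g.1 1), dval (tt g.1 2) (ee g.1 2))
  map_one' := rfl
  map_mul' g h := by
    have hp : g.1.p = 1 := g.2
    simp only [Subgroup.coe_mul, tt_mul, ee_mul, hp, inv_one, act3_one, dval_mul, Prod.mk_mul_mk]

theorem blocks_mem : ∀ (a b c : ZMod 3) (x y : Bool),
    ((dval a x, dval b y, dval c (xor (xor x y) (odd (1 : D)))) : S3Cube.D × S3Cube.D × S3Cube.D) ∈
      S3Cube.K := by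
  decide +kernel

theorem exists_equiv_P1 : Nonempty (P1 ≃* S3Cube.K) := by
  have hmem : ∀ g : P1, blocks g ∈ S3Cube.K := fun g => by
    obtain ⟨⟨a, b, c, x, y, p⟩, hp⟩ := g
    obtain rfl : p = 1 := hp
    exact blocks_mem a b c x y
  refine ⟨MulEquiv.ofBijective (blocks.codRestrict S3Cube.K hmem) ?_⟩
  rw [Nat.bijective_iff_injective_and_card]
  constructor
  · rintro ⟨g, hg⟩ ⟨h, hh⟩ e
    have hinj : ∀ (a b : ZMod 3) (x y : Bool), dval a x = dval b y → a = b ∧ x = y := by decide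
    have e' := congrArg Subtype.val e
    obtain ⟨e0, e12⟩ := Prod.ext_iff.1 e'
    obtain ⟨e1, e2⟩ := Prod.ext_iff.1 e12
    apply Subtype.ext
    refine ext' (fun i => ?_) (fun i => ?_) ((show g.p = 1 from hg).trans (show h.p = 1 from hh).symm)
    · fin_cases i
      exacts [(hinj _ _ _ _ e0).1, (hinj _ _ _ _ e1).1, (hinj _ _ _ _ e2).1]
    · fin_cases i
      exacts [(hinj _ _ _ _ e0).2, (hinj _ _ _ _ e1).2, (hinj _ _ _ _ e2).2]
  · rw [Nat.card_congr (β := (Finset.univ.filter fun g : W => g.p = 1 : Finset W))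
        (Equiv.subtypeEquivRight fun g => by simp [mem_P1]),
      Nat.card_eq_finsetCard, Nat.card_eq_fintype_card, S3Cube.card_K]
    decide +kernel

/-! ## The embedding into the symmetric group of degree nine -/

/-- The point with block and position. -/
def idx : ZMod 3 × ZMod 3 ≃ Fin 9 where
  toFun x := ⟨3 * x.1.val + x.2.val, by
    have := ZMod.val_lt x.1; have := ZMod.val_lt x.2; omega⟩
  invFun k := ((k.val / 3 : ℕ), (k.val : ℕ))
  left_inv := by decide
  right_inv := by decide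

/-- The action on block and position. -/
def act9 (g : W) (x : ZMod 3 × ZMod 3) : ZMod 3 × ZMod 3 :=
  (act3 g.p x.1, sg (ee g (act3 g.p x.1)) * x.2 + tt g (act3 g.p x.1))

theorem act9_mul (g h : W) (x : ZMod 3 × ZMod 3) : act9 (g * h) x = act9 g (act9 h x) := by
  simp only [act9, mul_p, act3_mul, ee_mul, tt_mul, sg_xor, ← act3_mul g.p⁻¹, inv_mul_cancel, act3_one]
  ext
  · rfl
  · ring

theorem act9_one : ∀ x, act9 1 x = x := by decide

/-- The embedding. -/
def φ : W →* Equiv.Perm (Fin 9) where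
  toFun g := idx.permCongr ⟨act9 g, act9 g⁻¹,
    fun x => by rw [← act9_mul, inv_mul_cancel, act9_one],
    fun x => by rw [← act9_mul, mul_inv_cancel, act9_one]⟩
  map_one' := Equiv.ext fun k => by simp [act9_one]
  map_mul' g h := Equiv.ext fun k => by simp [act9_mul]

/-- The four generators. -/
abbrev gens : Set (Equiv.Perm (Fin 9)) :=
  {Equiv.swap (0 : Fin 9) 1 * Equiv.swap 1 2,
    Equiv.swap (0 : Fin 9) 3 * Equiv.swap 3 6 * (Equiv.swap (1 : Fin 9) 4 * Equiv.swap 4 7) * (Equiv.swap (2 : Fin 9) 5 * Equiv.swap 5 8),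
    Equiv.swap (0 : Fin 9) 1 * Equiv.swap 3 4, Equiv.swap (0 : Fin 9) 3 * Equiv.swap 1 4 * Equiv.swap 2 5 * Equiv.swap 6 7}

/-- The first generator. -/
def gA : W := tr 1 0 0
/-- The second generator. -/
def gB : W := ⟨0, 0, 0, false, false, .r 1⟩
/-- The third generator. -/
def gC : W := ⟨1, 1, 0, true, true, 1⟩
/-- The fourth generator. -/
def gD : W := ⟨0, 0, 1, false, false, .sr 2⟩

theorem φ_gens : φ gA = Equiv.swap (0 : Fin 9) 1 * Equiv.swap 1 2 ∧
    φ gB = Equiv.swap (0 : Fin 9) 3 * Equiv.swap 3 6 * (Equiv.swap (1 : Fin 9) 4 * Equiv.swap 4 7) *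
      (Equiv.swap (2 : Fin 9) 5 * Equiv.swap 5 8) ∧
    φ gC = Equiv.swap (0 : Fin 9) 1 * Equiv.swap 3 4 ∧
    φ gD = Equiv.swap (0 : Fin 9) 3 * Equiv.swap 1 4 * Equiv.swap 2 5 * Equiv.swap 6 7 := by
  decide +kernel

theorem tr_word : ∀ a b c : ZMod 3, tr a b c =
    gA ^ a.val * (gB * gA * gB⁻¹) ^ b.val * (gB * gB * gA * (gB * gB)⁻¹) ^ c.val := by
  decide +kernel

theorem split : ∀ g : W, g = tr g.t0 g.t1 g.t2 * s0 g := by decide +kernel

theorem s0_word : ∀ (x y : Bool) (p : D),
    ∃ a b c : ZMod 3, ∃ v : Fin 4, ∃ j : Fin 2, ∃ i : Fin 3,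
      (⟨0, 0, 0, x, y, p⟩ : W) = tr a b c *
        (![1, gC, gB * gC * gB⁻¹, gB * gB * gC * (gB * gB)⁻¹] v * gD ^ j.val * gB ^ i.val) := by
  decide +kernel

theorem φ_range : φ.range = Subgroup.closure gens := by
  obtain ⟨hA, hB, hC, hD⟩ := φ_gens
  refine le_antisymm ?_ ((Subgroup.closure_le _).2 ?_)
  · rintro - ⟨g, rfl⟩
    have mA : φ gA ∈ Subgroup.closure gens := Subgroup.subset_closure (Or.inl hA)
    have mB : φ gB ∈ Subgroup.closure gens := Subgroup.subset_closure (Or.inr (Or.inl hB))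
    have mC : φ gC ∈ Subgroup.closure gens := Subgroup.subset_closure (Or.inr (Or.inr (Or.inl hC)))
    have mD : φ gD ∈ Subgroup.closure gens := Subgroup.subset_closure (Or.inr (Or.inr (Or.inr hD)))
    have mt : ∀ a b c, φ (tr a b c) ∈ Subgroup.closure gens := fun a b c => by
      rw [tr_word a b c]
      simp only [map_mul, map_pow, map_inv]
      exact mul_mem (mul_mem (pow_mem mA _) (pow_mem (mul_mem (mul_mem mB mA) (inv_mem mB)) _))
        (pow_mem (mul_mem (mul_mem (mul_mem mB mB) mA) (inv_mem (mul_mem mB mB))) _)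
    rw [split g, map_mul]
    refine mul_mem (mt _ _ _) ?_
    obtain ⟨a, b, c, v, j, i, h⟩ := s0_word g.e0 g.e1 g.p
    rw [s0, h]
    simp only [map_mul, map_pow]
    refine mul_mem (mt _ _ _) (mul_mem (mul_mem ?_ (pow_mem mD _)) (pow_mem mB _))
    fin_cases v
    · show φ 1 ∈ _
      rw [map_one]
      exact one_mem _
    · exact mC
    · show φ (gB * gC * gB⁻¹) ∈ _
      rw [map_mul, map_mul, map_inv]
      exact mul_mem (mul_mem mB mC) (inv_mem mB)
    · show φ (gB * gB * gC * (gB * gB)⁻¹) ∈ _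
      rw [map_mul, map_mul, map_inv, map_mul]
      exact mul_mem (mul_mem (mul_mem mB mB) mC) (inv_mem (mul_mem mB mB))
  · rintro g (rfl | rfl | rfl | rfl)
    exacts [⟨gA, hA⟩, ⟨gB, hB⟩, ⟨gC, hC⟩, ⟨gD, hD⟩]

theorem φ_injective : Function.Injective φ := by
  rw [injective_iff_map_eq_one]
  decide +kernel

/-- The model is the given permutation group. -/
noncomputable def equivPerm : W ≃* Subgroup.closure gens :=
  (MonoidHom.ofInjective φ_injective).trans (MulEquiv.subgroupCongr φ_range)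

/-! ## Steps used for normal subgroups -/

theorem weight_one_step : ∀ a b c : ZMod 3, tr a b c ≠ 1 → ∃ x y : Bool, ∃ x' y' : Bool,
    let v := tr a b c
    let g : W := ⟨0, 0, 0, x, y, 1⟩
    let h : W := ⟨0, 0, 0, x', y', 1⟩
    let r := g * v * g⁻¹ * (h * v * h⁻¹)
    r = tr 1 0 0 ∨ r = tr 2 0 0 ∨ r = tr 0 1 0 ∨ r = tr 0 2 0 ∨ r = tr 0 0 1 ∨ r = tr 0 0 2 := by
  decide +kernel

theorem weight_one_orbit : ∀ a b c : ZMod 3, weight (a, b, c) = 1 → ∃ x y : Bool, ∃ i : D,
    (⟨0, 0, 0, x, y, i⟩ : W) * tr a b c * (⟨0, 0, 0, x, y, i⟩ : W)⁻¹ = u1 := by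
  decide +kernel

theorem tr_gen : ∀ a b c : ZMod 3, tr a b c =
    u1 ^ a.val * ((⟨0, 0, 0, false, false, .r 1⟩ : W) * u1 * (⟨0, 0, 0, false, false, .r 1⟩ : W)⁻¹) ^ b.val *
      ((⟨0, 0, 0, false, false, .r 2⟩ : W) * u1 * (⟨0, 0, 0, false, false, .r 2⟩ : W)⁻¹) ^ c.val := by
  decide +kernel

theorem odd_step : ∀ (x y : Bool) (p : D), p ≠ 1 → odd p = true →
    ∃ x' y' : Bool, ∃ i : D, let g : W := ⟨0, 0, 0, x, y, p⟩
      let h : W := ⟨0, 0, 0, x', y', i⟩
      (h * g * h⁻¹ * g⁻¹).p ≠ 1 ∧ odd (h * g * h⁻¹ * g⁻¹).p = false := by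
  decide +kernel

theorem even_step : ∀ (x y : Bool) (p : D), p ≠ 1 → odd p = false →
    ∀ (x₂ y₂ : Bool) (p₂ : D), odd p₂ = false →
    ∃ a b : Bool, ∃ i : D, ∃ a' b' : Bool, ∃ i' : D, let g : W := ⟨0, 0, 0, x, y, p⟩
      let h : W := ⟨0, 0, 0, a, b, i⟩
      let k : W := ⟨0, 0, 0, a', b', i'⟩
      h * g * h⁻¹ * (k * g * k⁻¹) = ⟨0, 0, 0, x₂, y₂, p₂⟩ ∨
        h * g * h⁻¹ * (k * g⁻¹ * k⁻¹) = ⟨0, 0, 0, x₂, y₂, p₂⟩ := by
  decide +kernel

theorem four_step : ∀ x y x₂ y₂ : Bool, (x || y) = true → (x₂ || y₂) = true → ∃ i : ZMod 3,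
    (⟨0, 0, 0, false, false, .r i⟩ : W) * ⟨0, 0, 0, x, y, 1⟩ * (⟨0, 0, 0, false, false, .r i⟩ : W)⁻¹ =
      ⟨0, 0, 0, x₂, y₂, 1⟩ := by
  decide +kernel

end Cfsg.Agent.Exceptional.Nine
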