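import Cfsg.Agent.Lib.CharInt.TI
import Cfsg.Agent.Lib.CharInt.Basic
import Cfsg.Agent.Lib.Char.Generalized
import Cfsg.Agent.Lib.Char.KernelSum
import Cfsg.Agent.Lib.Exceptional.SignVec

/-!
# Decompositions of induced functions of norm three
-/

set_option autoImplicit false

namespace Cfsg.Agent.Exceptional.NormThree

open Cfsg

universe u

/-- An integer vector of norm three with an entry `1` and zero degree has one further entry `1` and
one entry `-1`, the degrees differing by one. -/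
theorem exists_two_entries {ι : Type*} [Fintype ι] [DecidableEq ι] {i₀ : ι} {v d : ι → ℤ}
    (h0 : v i₀ = 1) (hn : v ⬝ᵥ v = 3) (hd : ∀ i, 0 < d i) (hd0 : d i₀ = 1) (hvd : v ⬝ᵥ d = 0) :
    ∃ a b, a ≠ i₀ ∧ b ≠ i₀ ∧ a ≠ b ∧ v a = 1 ∧ v b = -1 ∧ d b = d a + 1 ∧
      ∀ i, i ≠ i₀ → i ≠ a → i ≠ b → v i = 0 := by
  have hsplit : ∀ w : ι → ℤ, v ⬝ᵥ w = w i₀ + ∑ i ∈ rest i₀ v, v i * w i := fun w => by
    rw [dotProduct, ← Finset.add_sum_erase _ _ (Finset.mem_univ i₀), h0, one_mul, rest,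
      Finset.sum_filter_of_ne (p := fun i => v i ≠ 0) (fun i _ hi h => hi (by rw [h, zero_mul]))]
  have h2 : ∑ i ∈ rest i₀ v, v i * v i = 2 := by
    have := hsplit v
    rw [hn, h0] at this
    omega
  have h1 : ∀ i ∈ rest i₀ v, (v i = 1 ∨ v i = -1) ∧ v i * v i = 1 := fun i hi => by
    have : v i * v i ≤ 2 := h2 ▸ Finset.single_le_sum
      (f := fun j => v j * v j) (fun j _ => mul_self_nonneg _) hi
    rcases sq_eq_one_of_bound (mem_rest.1 hi).2 (by nlinarith) (by nlinarith) with h | h <;> simp [h]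
  have hcard : (rest i₀ v).card = 2 := by
    rw [Finset.sum_congr rfl fun i hi => (h1 i hi).2] at h2
    simp at h2
    exact_mod_cast h2
  obtain ⟨a, b, hab, hrest⟩ := Finset.card_eq_two.1 hcard
  have ha : a ∈ rest i₀ v := by simp [hrest]
  have hb : b ∈ rest i₀ v := by simp [hrest]
  have hdeg := hsplit d
  rw [hvd, hd0, hrest, Finset.sum_pair hab] at hdeg
  have hrest' : ∀ i, i ≠ i₀ → i ≠ a → i ≠ b → v i = 0 := fun i hi hia hib => by
    by_contra h
    have := mem_rest.2 ⟨hi, h⟩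
    simp [hrest, hia, hib] at this
  have := hd a
  have := hd b
  rcases (h1 a ha).1 with e | e <;> rcases (h1 b hb).1 with e' | e' <;> rw [e, e'] at hdeg
  · omega
  · exact ⟨a, b, (mem_rest.1 ha).1, (mem_rest.1 hb).1, hab, e, e', by omega, hrest'⟩
  · exact ⟨b, a, (mem_rest.1 hb).1, (mem_rest.1 ha).1, hab.symm, e', e, by omega,
      fun i hi h h' => hrest' i hi h' h⟩
  · omega

theorem sum_three {ι : Type*} [Fintype ι] [DecidableEq ι] {R : Type*} [Ring R] {i₀ a b : ι}
    {v : ι → ℤ} (h0 : v i₀ = 1) (ha : a ≠ i₀) (hb : b ≠ i₀) (hab : a ≠ b) (hva : v a = 1)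
    (hvb : v b = -1) (hz : ∀ i, i ≠ i₀ → i ≠ a → i ≠ b → v i = 0) (F : ι → R) :
    ∑ i, (v i : R) * F i = F i₀ + F a - F b := by
  rw [← Finset.sum_subset (Finset.subset_univ ({i₀, a, b} : Finset ι)) fun i _ hi => ?_,
    Finset.sum_insert (by simp [ha.symm, hb.symm]), Finset.sum_pair hab, h0, hva, hvb]
  · simp [sub_eq_add_neg, add_assoc]
  · simp only [Finset.mem_insert, Finset.mem_singleton, not_or] at hi
    simp [hz i hi.1 hi.2.1 hi.2.2]

variable {G : Type u} [Group G] [Fintype G] {H : Subgroup G} [Fintype H]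

/-- The coordinates of functions induced from a TI support set. -/
theorem exists_coords {S : Set G} (hS1 : (1 : G) ∉ S)
    (hTI : ∀ g : G, ∀ s ∈ S, g⁻¹ * s * g ∈ S → g ∈ H) {κ : Type*} (α : κ → H → ℂ)
    (hgen : ∀ k, IsGeneralizedCharacter H (α k)) (hα : ∀ k, ∀ h : H, (h : G) ∉ S → α k h = 0) :
    ∃ V : κ → IrrCharacter G → ℤ,
      (∀ k, indFun H (α k) = ∑ χ, (V k χ : ℂ) • χ.1) ∧
      (∀ k χ, (V k χ : ℂ) = classInner (α k) (fun h : H => χ.1 h)) ∧
      (∀ k l, ((V k ⬝ᵥ V l : ℤ) : ℂ) = classInner (α k) (α l)) ∧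
      (∀ k, V k ⬝ᵥ (fun χ => (charDegree χ.1 : ℤ)) = 0) := by
  choose V hV hVi using fun k =>
    Char.IsGeneralizedCharacter.exists_decomp (Char.isGeneralizedCharacter_indFun H (hgen k))
  have hVc : ∀ k χ, (V k χ : ℂ) = classInner (α k) (fun h : H => χ.1 h) := fun k χ => by
    rw [← hVi, Char.classInner_indFun H _ (Char.IsCharacter.isClassFunction (Char.irr_isCharacter χ))]
  refine ⟨V, hV, hVc, fun k l => ?_, fun k => ?_⟩
  · rw [← CharInt.classInner_indFun_ti hTI (hα k)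
      (Char.IsGeneralizedCharacter.isClassFunction (hgen l)) (hα l), hV l, Char.classInner_sum_right,
      dotProduct, Int.cast_sum]
    refine Finset.sum_congr rfl fun χ _ => ?_
    rw [Char.classInner_smul_right, hVi, map_intCast, Int.cast_mul]
    ring
  · have h := congrFun (hV k) 1
    rw [Char.indFun_apply_one, hα k 1 hS1, mul_zero, Finset.sum_apply] at h
    have h' : ((V k ⬝ᵥ (fun χ => (charDegree χ.1 : ℤ)) : ℤ) : ℂ) = 0 := by
      rw [h, dotProduct, Int.cast_sum]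
      refine Finset.sum_congr rfl fun χ _ => ?_
      simp [Char.charDegree_cast]
    exact_mod_cast h'

end Cfsg.Agent.Exceptional.NormThree
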