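import Mathlib

/-! Integer vectors of small norm. -/

set_option autoImplicit false

namespace Cfsg.Agent.Exceptional

variable {ι : Type*} [Fintype ι]

/-- A vector of norm one. -/
def IsUnitVec (u : ι → ℤ) : Prop := u ⬝ᵥ u = 1

theorem dot_self_nonneg (v : ι → ℤ) : 0 ≤ v ⬝ᵥ v :=
  Finset.sum_nonneg fun i _ => mul_self_nonneg (v i)

theorem IsUnitVec.neg {u : ι → ℤ} (h : IsUnitVec u) : IsUnitVec (-u) := by
  rwa [IsUnitVec, neg_dotProduct, dotProduct_neg, neg_neg]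

theorem IsUnitVec.dot_sq_le_one {u v : ι → ℤ} (hu : IsUnitVec u) (hv : IsUnitVec v) :
    (u ⬝ᵥ v) * (u ⬝ᵥ v) ≤ 1 := by
  have h := dot_self_nonneg (v - (u ⬝ᵥ v) • u)
  simp only [sub_dotProduct, dotProduct_sub, smul_dotProduct, dotProduct_smul, smul_eq_mul,
    dotProduct_comm v u] at h
  rw [show u ⬝ᵥ u = 1 from hu, show v ⬝ᵥ v = 1 from hv] at h
  linarith

/-- Two non-orthogonal unit vectors are equal up to sign. -/
theorem IsUnitVec.eq_smul {u v : ι → ℤ} (hu : IsUnitVec u) (hv : IsUnitVec v) (h0 : u ⬝ᵥ v ≠ 0) :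
    v = (u ⬝ᵥ v) • u ∧ (u ⬝ᵥ v) * (u ⬝ᵥ v) = 1 := by
  have h1 := hu.dot_sq_le_one hv
  have h2 : 0 < (u ⬝ᵥ v) * (u ⬝ᵥ v) := mul_self_pos.2 h0
  have h3 : (u ⬝ᵥ v) * (u ⬝ᵥ v) = 1 := by omega
  refine ⟨sub_eq_zero.1 (dotProduct_self_eq_zero.1 ?_), h3⟩
  simp only [sub_dotProduct, dotProduct_sub, smul_dotProduct, dotProduct_smul, smul_eq_mul,
    dotProduct_comm v u]
  rw [show u ⬝ᵥ u = 1 from hu, show v ⬝ᵥ v = 1 from hv]
  linarith

variable [DecidableEq ι]

theorem IsUnitVec.single (i : ι) {e : ℤ} (he : e = 1 ∨ e = -1) : IsUnitVec (Pi.single i e) := by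
  rcases he with rfl | rfl <;> simp [IsUnitVec]

theorem IsUnitVec.exists_single {u : ι → ℤ} (hu : IsUnitVec u) :
    ∃ (i : ι) (e : ℤ), (e = 1 ∨ e = -1) ∧ u = Pi.single i e := by
  obtain ⟨i, hi⟩ : ∃ i, u i ≠ 0 := by
    by_contra h
    push Not at h
    have : u = 0 := funext h
    simp [IsUnitVec, this] at hu
  have hs := IsUnitVec.single (e := 1) i (Or.inl rfl)
  obtain ⟨h1, h2⟩ := hs.eq_smul hu (by simpa using hi)
  simp only [single_one_dotProduct] at h1 h2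
  refine ⟨i, u i, mul_self_eq_one_iff.1 h2, h1.trans ?_⟩
  funext j
  simp [Pi.single_apply]

/-- A vector of norm two is a sum of two orthogonal unit vectors. -/
theorem exists_pair_of_norm_two {v : ι → ℤ} (h : v ⬝ᵥ v = 2) :
    ∃ a b : ι → ℤ, IsUnitVec a ∧ IsUnitVec b ∧ a ⬝ᵥ b = 0 ∧ v = a + b := by
  obtain ⟨i, hi⟩ : ∃ i, v i ≠ 0 := by
    by_contra hc
    push Not at hc
    simp [show v = 0 from funext hc] at h
  have hle : v i * v i ≤ v ⬝ᵥ v :=
    Finset.single_le_sum (f := fun j => v j * v j) (fun j _ => mul_self_nonneg _) (Finset.mem_univ i)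
  have hb : -1 ≤ v i ∧ v i ≤ 1 := by constructor <;> nlinarith
  have he : v i = 1 ∨ v i = -1 := by omega
  have he2 : v i * v i = 1 := mul_self_eq_one_iff.2 he
  refine ⟨Pi.single i (v i), v - Pi.single i (v i), IsUnitVec.single i he, ?_, ?_, by abel⟩
  · simp only [IsUnitVec, sub_dotProduct, dotProduct_sub, single_dotProduct, dotProduct_single,
      Pi.sub_apply, Pi.single_eq_same]
    linarith
  · simp only [dotProduct_sub, single_dotProduct, Pi.single_eq_same]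
    linarith

end Cfsg.Agent.Exceptional
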